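import Mathlib.AlgebraicGeometry.Morphisms.Affine
import Mathlib.AlgebraicGeometry.Morphisms.ClosedImmersion
import Mathlib.AlgebraicGeometry.Properties

/-!
# Affineness from surjectivity of restriction of functions to reduced closed subschemes
-/

set_option autoImplicit false
universe u

open CategoryTheory CategoryTheory.Limits AlgebraicGeometry TopologicalSpace Opposite

namespace Groth.Agent.H11Aff.SubschemeCriterion

variable {W : Scheme.{u}}

/-- The functions invertible at no point of `C`. -/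
noncomputable def vIdeal (C : Set W) : Ideal Γ(W, ⊤) :=
  ⨅ x ∈ C, (IsLocalRing.maximalIdeal (W.presheaf.stalk x)).comap (W.presheaf.germ ⊤ x trivial).hom

theorem mem_vIdeal {C : Set W} {g : Γ(W, ⊤)} : g ∈ vIdeal C ↔ ∀ x ∈ C, x ∉ W.basicOpen g := by
  simp only [vIdeal, Ideal.mem_iInf, Ideal.mem_comap, IsLocalRing.mem_maximalIdeal, mem_nonunits_iff,
    Scheme.mem_basicOpen_top]

/-- In a reduced quasi-compact scheme with `D(f)` dense, a function vanishing on `V(f)` has a power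
divisible by `f`. -/
theorem exists_pow_eq_mul {D : Scheme.{u}} [IsReduced D] [CompactSpace D] (f h : Γ(D, ⊤))
    (hd : Dense (D.basicOpen f : Set D)) (hle : D.basicOpen h ≤ D.basicOpen f) :
    ∃ (n : ℕ) (b : Γ(D, ⊤)), 0 < n ∧ h ^ n = f * b := by
  classical
  let res : ∀ O : D.Opens, Γ(D, ⊤) →+* Γ(D, O) := fun O => (D.presheaf.map (homOfLE (le_top : O ≤ ⊤)).op).hom
  have huniq : ∀ (O : D.Opens) (c : Γ(D, O)), res O f * c = 0 → c = 0 := by
    intro O c hc
    rw [← basicOpen_eq_bot_iff, eq_bot_iff]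
    intro x hx
    obtain ⟨y, hy⟩ := hd.inter_open_nonempty _ (D.basicOpen c).isOpen ⟨x, hx⟩
    have h1 : y ∈ D.basicOpen (res O f * c) := by
      rw [Scheme.basicOpen_mul]
      refine ⟨?_, hy.1⟩
      change y ∈ D.basicOpen (D.presheaf.map (homOfLE (le_top : O ≤ ⊤)).op f)
      rw [Scheme.basicOpen_res]
      exact ⟨D.basicOpen_le c hy.1, hy.2⟩
    rw [hc, Scheme.basicOpen_zero] at h1
    exact h1.elim
  have hloc : ∀ U : D.affineOpens, ∃ (n : ℕ) (b : Γ(D, U.1)), res U.1 h ^ n = res U.1 f * b := by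
    intro U
    have hle' : PrimeSpectrum.basicOpen (res U.1 h) ≤ PrimeSpectrum.basicOpen (res U.1 f) := by
      rw [← U.2.fromSpec_preimage_basicOpen, ← U.2.fromSpec_preimage_basicOpen]
      intro x hx
      change U.2.fromSpec x ∈ D.basicOpen (D.presheaf.map (homOfLE (le_top : U.1 ≤ ⊤)).op f)
      change U.2.fromSpec x ∈ D.basicOpen (D.presheaf.map (homOfLE (le_top : U.1 ≤ ⊤)).op h) at hx
      rw [Scheme.basicOpen_res] at hx ⊢
      exact ⟨hx.1, hle hx.2⟩
    obtain ⟨n, hn⟩ := (PrimeSpectrum.basicOpen_le_basicOpen_iff _ _).1 hle'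
    obtain ⟨b, hb⟩ := Ideal.mem_span_singleton'.1 hn
    exact ⟨n, b, by rw [mul_comm]; exact hb.symm⟩
  choose n b hb using hloc
  obtain ⟨t, ht⟩ := isCompact_univ.elim_finite_subcover (fun U : D.affineOpens => (U.1 : Set D))
    (fun U => U.1.isOpen) (fun x _ => by
      obtain ⟨U, hU⟩ := Opens.mem_iSup.1 ((iSup_affineOpens_eq_top D).ge (Set.mem_univ x))
      exact Set.mem_iUnion.2 ⟨U, hU⟩)
  let N := t.sup n
  let b' : ∀ U : t, Γ(D, U.1.1) := fun U => res U.1.1 h ^ (N - n U.1) * b U.1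
  have hb' : ∀ U : t, res U.1.1 h ^ N = res U.1.1 f * b' U := by
    intro U
    rw [show N = (N - n U.1) + n U.1 from (Nat.sub_add_cancel (Finset.le_sup U.2)).symm, pow_add, hb]
    simp only [b']
    ring
  have hres : ∀ {O O' : D.Opens} (i : O' ≤ O) (a : Γ(D, ⊤)),
      (D.presheaf.map (homOfLE i).op).hom (res O a) = res O' a := fun {O O'} i a => by
    simp only [res, ← CommRingCat.comp_apply, ← Functor.map_comp]
    rfl
  have hcompat : TopCat.Presheaf.IsCompatible D.presheaf (fun U : t => U.1.1) b' := by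
    intro U V
    refine sub_eq_zero.1 (huniq _ _ ?_)
    have e1 := congrArg (D.presheaf.map (homOfLE (inf_le_left : U.1.1 ⊓ V.1.1 ≤ U.1.1)).op).hom (hb' U)
    have e2 := congrArg (D.presheaf.map (homOfLE (inf_le_right : U.1.1 ⊓ V.1.1 ≤ V.1.1)).op).hom (hb' V)
    rw [map_mul, map_pow, hres, hres] at e1 e2
    rw [mul_sub, sub_eq_zero]
    exact e1.symm.trans e2
  obtain ⟨g, hg, -⟩ := D.sheaf.existsUnique_gluing' (fun U : t => U.1.1) ⊤ (fun U => homOfLE le_top)
    (fun x _ => by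
      obtain ⟨U, hU, hxU⟩ := Set.mem_iUnion₂.1 (ht (Set.mem_univ x))
      exact Opens.mem_iSup.2 ⟨⟨U, hU⟩, hxU⟩) b' hcompat
  refine ⟨N + 1, (show Γ(D, ⊤) from g) * h, N.succ_pos, ?_⟩
  rw [pow_succ, ← mul_assoc]
  refine congrArg (· * h) (D.sheaf.eq_of_locally_eq' (fun U : t => U.1.1) ⊤ (fun U => homOfLE le_top)
    (fun x _ => by
      obtain ⟨U, hU, hxU⟩ := Set.mem_iUnion₂.1 (ht (Set.mem_univ x))
      exact Opens.mem_iSup.2 ⟨⟨U, hU⟩, hxU⟩) _ _ fun U => ?_)
  change (D.presheaf.map (homOfLE le_top).op).hom (h ^ N) = (D.presheaf.map (homOfLE le_top).op).hom (f * (show Γ(D, ⊤) from g))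
  rw [map_pow, map_mul]
  exact (hb' U).trans (congrArg _ (hg U).symm)

/-- Restriction of functions is surjective onto some reduced closed subscheme on every closed subset. -/
def ClosedSurj (W : Scheme.{u}) : Prop :=
  ∀ C : Set W, IsClosed C → ∃ (D : Scheme.{u}) (i : D ⟶ W),
    IsClosedImmersion i ∧ IsReduced D ∧ Set.range i = C ∧ Function.Surjective i.appTop

omit W in
theorem subsingleton_of_bot {D : Scheme.{u}} {O : D.Opens} (h : O = ⊥) : Subsingleton Γ(D, O) := by
  subst h; infer_instance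

theorem exists_clopen {D : Scheme.{u}} (W₁ W₂ : D.Opens) (h : W₁ ⊓ W₂ = ⊥) (h' : W₁ ⊔ W₂ = ⊤) :
    ∃ e : Γ(D, ⊤), W₁ ≤ D.basicOpen e ∧ D.basicOpen e ⊓ W₂ = ⊥ := by
  have hcompat : TopCat.Presheaf.IsCompatible D.presheaf (fun k : Bool => if k then W₁ else W₂)
      (fun k => if k then 1 else 0) := by
    intro k l
    rcases k with _ | _ <;> rcases l with _ | _
    case false.true => exact Subsingleton.elim (h := subsingleton_of_bot (by simp [inf_comm, h])) _ _
    case true.false => exact Subsingleton.elim (h := subsingleton_of_bot (by simp [h])) _ _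
    all_goals simp
  obtain ⟨e, he, -⟩ := D.sheaf.existsUnique_gluing' (fun k : Bool => if k then W₁ else W₂) ⊤
    (fun k => homOfLE le_top) (by rw [iSup_bool_eq]; simpa using h'.ge) _ hcompat
  have e1 : (D.presheaf.map (homOfLE (le_top : W₁ ≤ ⊤)).op).hom (show Γ(D, ⊤) from e) = 1 := by
    exact he true
  have e2 : (D.presheaf.map (homOfLE (le_top : W₂ ≤ ⊤)).op).hom (show Γ(D, ⊤) from e) = 0 := by
    exact he false
  refine ⟨e, ?_, ?_⟩
  · have h1 := D.basicOpen_res (show Γ(D, ⊤) from e) (homOfLE (le_top : W₁ ≤ ⊤)).op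
    rw [e1, Scheme.basicOpen_of_isUnit _ isUnit_one] at h1
    exact h1.le.trans inf_le_right
  · have h2 := D.basicOpen_res (show Γ(D, ⊤) from e) (homOfLE (le_top : W₂ ≤ ⊤)).op
    rw [e2, Scheme.basicOpen_zero] at h2
    rw [inf_comm]
    exact h2.symm

variable [CompactSpace W] (H : ClosedSurj W)

include H in
theorem span_sup_vIdeal (l : List Γ(W, ⊤)) :
    ∀ C : Set W, IsClosed C → (∀ x ∈ C, ∃ f ∈ l, x ∈ W.basicOpen f) →
      Ideal.span {f | f ∈ l} ⊔ vIdeal C = ⊤ := by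
  induction l with
  | nil =>
    intro C _ hC
    refine (Ideal.eq_top_iff_one _).2 (Ideal.mem_sup_right (mem_vIdeal.2 fun x hx => ?_))
    obtain ⟨f, hf, -⟩ := hC x hx
    exact absurd hf (List.not_mem_nil)
  | cons f l ih =>
    intro C hC hcov
    let K := Ideal.span {g | g ∈ f :: l} ⊔ vIdeal C
    have hone := (Ideal.eq_top_iff_one _).1 (ih (C ∩ (W.basicOpen f : Set W)ᶜ)
      (hC.inter (W.basicOpen f).isOpen.isClosed_compl) fun x hx => by
        obtain ⟨g, hg, hxg⟩ := hcov x hx.1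
        rcases List.mem_cons.1 hg with rfl | hg
        · exact absurd hxg hx.2
        · exact ⟨g, hg, hxg⟩)
    obtain ⟨g, hg, h, hh, hgh⟩ := Submodule.mem_sup.1 hone
    rw [mem_vIdeal] at hh
    obtain ⟨D, i, hi, hD, hr, hs⟩ := H (closure (C ∩ (W.basicOpen f : Set W))) isClosed_closure
    have : CompactSpace D := QuasiCompact.compactSpace_of_compactSpace i
    have hpre : ∀ a : Γ(W, ⊤), i ⁻¹ᵁ W.basicOpen a = D.basicOpen (i.appTop a) := fun a =>
      Scheme.preimage_basicOpen_top i a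
    have hDC : ∀ y, i y ∈ C := fun y =>
      (closure_minimal Set.inter_subset_left hC) (hr ▸ Set.mem_range_self y)
    obtain ⟨n, b, hn, hb⟩ := exists_pow_eq_mul (i.appTop f) (i.appTop h)
      (by
        rw [← hpre]
        refine dense_iff_closure_eq.2 (Set.eq_univ_of_forall fun y => ?_)
        rw [i.isClosedEmbedding.isEmbedding.closure_eq_preimage_closure_image, Set.mem_preimage]
        refine closure_mono ?_ (hr ▸ Set.mem_range_self y)
        rintro x hx
        obtain ⟨z, rfl⟩ : x ∈ Set.range i := hr ▸ subset_closure hx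
        exact ⟨z, hx.2, rfl⟩)
      (by
        rw [← hpre, ← hpre]
        intro y hy
        by_contra hyf
        exact hh (i y) ⟨hDC y, hyf⟩ hy)
    obtain ⟨b', rfl⟩ := hs b
    have hmem : h ^ n - f * b' ∈ vIdeal C := by
      refine mem_vIdeal.2 fun x hx hxm => ?_
      by_cases hxD : x ∈ closure (C ∩ (W.basicOpen f : Set W))
      · obtain ⟨y, rfl⟩ : x ∈ Set.range i := hr ▸ hxD
        change y ∈ i ⁻¹ᵁ W.basicOpen _ at hxm
        rw [hpre, map_sub, map_mul, map_pow, hb, sub_self, Scheme.basicOpen_zero] at hxm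
        exact hxm
      · have hxf : x ∉ W.basicOpen f := fun hxf => hxD (subset_closure ⟨hx, hxf⟩)
        have hxh := hh x ⟨hx, hxf⟩
        have h1 : h ^ n - f * b' ∈ vIdeal ({x} : Set W) :=
          Ideal.sub_mem _ (Ideal.pow_mem_of_mem _ (mem_vIdeal.2 fun z hz => by rwa [Set.mem_singleton_iff.1 hz]) _
            hn) (Ideal.mul_mem_right _ _ (mem_vIdeal.2 fun z hz => by
              rwa [Set.mem_singleton_iff.1 hz]))
        exact mem_vIdeal.1 h1 x rfl hxm
    have hfK : f ∈ K := Ideal.mem_sup_left (Ideal.subset_span (List.mem_cons_self))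
    have hgK : g ∈ K := Ideal.mem_sup_left (Ideal.span_mono (fun _ ha => List.mem_cons_of_mem _ ha) hg)
    have hhK : h ∈ K.radical := by
      refine ⟨n, ?_⟩
      rw [← sub_add_cancel (h ^ n) (f * b')]
      exact K.add_mem (Ideal.mem_sup_right hmem)
        (K.mul_mem_right _ hfK)
    rw [← Ideal.radical_eq_top, Ideal.eq_top_iff_one, ← hgh]
    exact Ideal.add_mem _ (Ideal.le_radical hgK) hhK

omit [CompactSpace W] in
include H in
theorem exists_basicOpen_affine {U : W.Opens} (hU : IsAffineOpen U) {x : W} (hxU : x ∈ U)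
    (hx : IsClosed ({x} : Set W)) : ∃ f : Γ(W, ⊤), x ∈ W.basicOpen f ∧ IsAffineOpen (W.basicOpen f) := by
  obtain ⟨D, i, hi, -, hr, hs⟩ := H ((U : Set W)ᶜ ∪ {x}) (U.isOpen.isClosed_compl.union hx)
  let Ux : W.Opens := ⟨{x}ᶜ, hx.isOpen_compl⟩
  have hsplit : ∀ y, i y ∈ U ↔ i y = x := fun y => by
    refine ⟨fun h => ?_, fun h => h ▸ hxU⟩
    rcases hr ▸ Set.mem_range_self y with h' | h'
    · exact absurd h h'
    · exact h'
  obtain ⟨e, he₁, he₂⟩ : ∃ e : Γ(D, ⊤), (∀ y, i y = x → y ∈ D.basicOpen e) ∧ ∀ y, i y ≠ x → y ∉ D.basicOpen e := by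
    obtain ⟨e, h1, h2⟩ := exists_clopen (i ⁻¹ᵁ U) (i ⁻¹ᵁ Ux)
      (eq_bot_iff.2 fun y hy => (hy.2 ((hsplit y).1 hy.1)).elim)
      (eq_top_iff.2 fun y _ => (em (i y = x)).imp (hsplit y).2 id)
    exact ⟨e, fun y hy => h1 ((hsplit y).2 hy), fun y hy hye => h2.le ⟨hye, hy⟩⟩
  obtain ⟨f, rfl⟩ := hs e
  have hle : W.basicOpen f ≤ U := fun z hz => by
    by_contra hzU
    obtain ⟨y, rfl⟩ : z ∈ Set.range i := hr ▸ Or.inl hzU
    refine he₂ y (fun h => hzU (h ▸ hxU)) ?_
    rw [← Scheme.preimage_basicOpen_top]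
    exact hz
  refine ⟨f, ?_, ?_⟩
  · obtain ⟨y, rfl⟩ : x ∈ Set.range i := hr ▸ Or.inr rfl
    have := he₁ y rfl
    rw [← Scheme.preimage_basicOpen_top] at this
    exact this
  · have := hU.basicOpen (W.presheaf.map (homOfLE (le_top : U ≤ ⊤)).op f)
    rwa [Scheme.basicOpen_res, inf_eq_right.2 hle] at this

include H in
/-- The criterion. -/
theorem isAffine_of_closedSurj : IsAffine W := by
  let s : Set Γ(W, ⊤) := {f | IsAffineOpen (W.basicOpen f)}
  have hcov : ∀ x : W, ∃ f ∈ s, x ∈ W.basicOpen f := by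
    intro x
    obtain ⟨y, hy, hyc⟩ := (isClosed_closure (s := ({x} : Set W))).exists_closed_singleton (by simp)
    obtain ⟨U, hU, hyU, -⟩ := exists_isAffineOpen_mem_and_subset (x := y) (U := (⊤ : W.Opens)) trivial
    obtain ⟨f, hf, hfa⟩ := exists_basicOpen_affine H hU hyU hyc
    obtain ⟨z, hz, rfl⟩ := mem_closure_iff.1 hy _ (W.basicOpen f).isOpen hf
    exact ⟨f, hfa, hz⟩
  choose g hg hgx using hcov
  obtain ⟨t, ht⟩ := isCompact_univ.elim_finite_subcover (fun x => (W.basicOpen (g x) : Set W))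
    (fun x => (W.basicOpen (g x)).isOpen) (fun x _ => Set.mem_iUnion.2 ⟨x, hgx x⟩)
  have h1 := (Ideal.eq_top_iff_one _).1 (span_sup_vIdeal H (t.toList.map g) Set.univ isClosed_univ fun x _ => by
    obtain ⟨y, hy, hxy⟩ := Set.mem_iUnion₂.1 (ht (Set.mem_univ x))
    exact ⟨g y, List.mem_map.2 ⟨y, Finset.mem_toList.2 hy, rfl⟩, hxy⟩)
  obtain ⟨a, ha, j, hj, haj⟩ := Submodule.mem_sup.1 h1
  have hu : IsUnit a := by
    refine W.toRingedSpace.isUnit_of_isUnit_germ ⊤ a fun x hx => ?_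
    have hjx : ¬ IsUnit ((W.presheaf.germ ⊤ x hx).hom j) := fun h =>
      mem_vIdeal.1 hj x trivial ((W.mem_basicOpen_top j x).2 h)
    have h2 : IsUnit ((W.presheaf.germ ⊤ x hx).hom a + (W.presheaf.germ ⊤ x hx).hom j) := by
      rw [← map_add, haj, map_one]; exact isUnit_one
    exact (IsLocalRing.isUnit_or_isUnit_of_isUnit_add h2).resolve_right hjx
  refine isAffine_of_isAffineOpen_basicOpen _ (Ideal.eq_top_of_isUnit_mem _ ha hu) fun f hf => ?_
  obtain ⟨y, -, rfl⟩ := List.mem_map.1 hf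
  exact hg y

end Groth.Agent.H11Aff.SubschemeCriterion
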