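import Groth.Prelude.Def_AffAlg
import Mathlib.AlgebraicGeometry.Morphisms.Affine
import Mathlib.AlgebraicGeometry.Morphisms.ClosedImmersion

/-!
# Properties of a morphism of affine schemes over a base read off on the algebras
-/

set_option autoImplicit false
universe u

open CategoryTheory AlgebraicGeometry TopologicalSpace Opposite

namespace Groth.Agent.H11Aff

variable {X Y S : Scheme.{u}}

theorem algHom_app_eq (f : X ⟶ S) (g : Y ⟶ S) (h : Y ⟶ X) (w : h ≫ f = g) (U : S.Opens) :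
    ∃ e : h ⁻¹ᵁ (f ⁻¹ᵁ U) = g ⁻¹ᵁ U,
      (AffAlg.algHom f g h w).app (op U) = h.app (f ⁻¹ᵁ U) ≫ Y.presheaf.map (eqToHom e.symm).op := by
  subst w
  refine ⟨rfl, ?_⟩
  simp [AffAlg.algHom]
  rfl

theorem of_app {P : MorphismProperty Scheme.{u}} [IsZariskiLocalAtTarget P] {Q : ∀ {R T : CommRingCat.{u}}, (R ⟶ T) → Prop}
    (hQ : ∀ {A B : Scheme.{u}} [IsAffine A] [IsAffine B] (k : A ⟶ B), Q k.appTop → P k)
    (hres : ∀ {R T T' : CommRingCat.{u}} (a : R ⟶ T) (b : T ⟶ T') [IsIso b], Q a → Q (a ≫ b))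
    (hres' : ∀ {R R' T : CommRingCat.{u}} (b : R' ⟶ R) (a : R ⟶ T) [IsIso b], Q a → Q (b ≫ a))
    (f : X ⟶ S) [IsAffineHom f] (g : Y ⟶ S) [IsAffineHom g] (h : Y ⟶ X) (w : h ≫ f = g)
    (H : ∀ U : S.Opens, IsAffineOpen U → Q ((AffAlg.algHom f g h w).app (op U))) : P h := by
  refine IsZariskiLocalAtTarget.of_iSup_eq_top (fun U : S.affineOpens => f ⁻¹ᵁ (U : S.Opens)) ?_ ?_
  · rw [← Scheme.Hom.preimage_iSup, iSup_affineOpens_eq_top, Scheme.Hom.preimage_top]
  intro U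
  obtain ⟨U, hU⟩ := U
  change IsAffineOpen U at hU
  obtain ⟨e, he⟩ := algHom_app_eq f g h w U
  have : IsAffine (f ⁻¹ᵁ U : Scheme.{u}) := hU.preimage f
  have : IsAffine (h ⁻¹ᵁ (f ⁻¹ᵁ U) : Scheme.{u}) := by
    rw [e]; exact hU.preimage g
  refine hQ (h ∣_ (f ⁻¹ᵁ U)) ?_
  have hq : Q (h.app (f ⁻¹ᵁ U)) := by
    have h' := H U hU
    rw [he] at h'
    have := @hres _ _ _ _ (Y.presheaf.map (eqToHom e).op) (Functor.map_isIso _ _) h'
    rwa [Category.assoc, ← Functor.map_comp, ← op_comp, eqToHom_trans, eqToHom_refl, op_id,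
      CategoryTheory.Functor.map_id, Category.comp_id] at this
  have e0 : (f ⁻¹ᵁ U).ι ''ᵁ ⊤ = f ⁻¹ᵁ U := by simp
  rw [morphismRestrict_appTop]
  refine @hres _ _ _ _ _ (Functor.map_isIso _ _) ?_
  have : h.app ((f ⁻¹ᵁ U).ι ''ᵁ ⊤) = X.presheaf.map (eqToHom e0.symm).op ≫ h.app (f ⁻¹ᵁ U) ≫
      Y.presheaf.map (eqToHom (congrArg (h ⁻¹ᵁ ·) e0)).op := by
    rw [← Category.assoc, h.naturality, Category.assoc, ← Functor.map_comp]
    convert! (Category.comp_id _).symm using 2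
    exact (congrArg Y.presheaf.map (Subsingleton.elim _ (𝟙 _))).trans (Y.presheaf.map_id _)
  rw [this]
  exact @hres' _ _ _ _ _ (Functor.map_isIso _ _) (@hres _ _ _ _ _ (Functor.map_isIso _ _) hq)

theorem isIso_of_algHom (f : X ⟶ S) [IsAffineHom f] (g : Y ⟶ S) [IsAffineHom g] (h : Y ⟶ X) (w : h ≫ f = g)
    (H : ∀ U : S.Opens, IsAffineOpen U → IsIso ((AffAlg.algHom f g h w).app (op U))) : IsIso h :=
  of_app (P := MorphismProperty.isomorphisms Scheme) (Q := fun a => IsIso a)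
    (fun {A B} _ _ k hk => by
      have : k = A.isoSpec.hom ≫ Spec.map k.appTop ≫ B.isoSpec.inv := by
        rw [Scheme.isoSpec_hom_naturality_assoc]; simp
      rw [this]
      change IsIso _
      infer_instance)
    (fun _ _ _ ha => inferInstance) (fun _ _ _ ha => inferInstance) f g h w H

theorem isClosedImmersion_of_algHom (f : X ⟶ S) [IsAffineHom f] (g : Y ⟶ S) [IsAffineHom g] (h : Y ⟶ X)
    (w : h ≫ f = g)
    (H : ∀ U : S.Opens, IsAffineOpen U → Function.Surjective ((AffAlg.algHom f g h w).app (op U)).hom) :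
    IsClosedImmersion h :=
  of_app (P := @IsClosedImmersion) (Q := fun a => Function.Surjective a.hom)
    (fun k hk => IsClosedImmersion.of_surjective_of_isAffine k hk)
    (fun a b _ ha => (ConcreteCategory.bijective_of_isIso b).2.comp ha)
    (fun b a _ ha => ha.comp (ConcreteCategory.bijective_of_isIso b).2) f g h w H

end Groth.Agent.H11Aff
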