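import Groth.Prelude.Def_AffAlg
import Groth.Agent.H11Aff.AlgHom
import Groth.Agent.H11Proj.RelProjGlue

/-!
# Morphisms into a scheme affine over the base correspond to algebra homomorphisms
-/

set_option autoImplicit false
universe u

open CategoryTheory CategoryTheory.Limits AlgebraicGeometry TopologicalSpace Opposite

namespace Groth.Agent.H11Aff

variable {X Y S : Scheme.{u}}

theorem eq_of_toSpecΓ {W : Y.Opens} {R : CommRingCat.{u}} {a b : R ⟶ Γ(Y, W)}
    (h : W.toSpecΓ ≫ Spec.map a = W.toSpecΓ ≫ Spec.map b) : a = b := by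
  have := congrArg Scheme.Hom.appTop h
  rw [Scheme.Hom.comp_appTop, Scheme.Hom.comp_appTop, Scheme.Opens.toSpecΓ_appTop] at this
  simp only [← Category.assoc, Scheme.ΓSpecIso_naturality] at this
  rw [cancel_mono] at this
  exact (cancel_epi _).1 this

theorem toSpecΓ_appLE_fromSpec (e : Y ⟶ X) {V : X.Opens} (hV : IsAffineOpen V) (W : Y.Opens) (hWV : W ≤ e ⁻¹ᵁ V) :
    W.toSpecΓ ≫ Spec.map (e.appLE V W hWV) ≫ hV.fromSpec = W.ι ≫ e := by
  rw [Scheme.Hom.appLE, Spec.map_comp, Category.assoc, ← Category.assoc W.toSpecΓ]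
  rw [Scheme.Opens.toSpecΓ_SpecMap_presheaf_map W (e ⁻¹ᵁ V) hWV, Category.assoc,
    ← Category.assoc (e ⁻¹ᵁ V).toSpecΓ, Scheme.Opens.toSpecΓ_naturality, Category.assoc,
    IsAffineOpen.toSpecΓ_fromSpec, morphismRestrict_ι, ← Category.assoc, Scheme.homOfLE_ι]

theorem algHom_app_eq_appLE (f : X ⟶ S) (g : Y ⟶ S) (h : Y ⟶ X) (w : h ≫ f = g) (U : S.Opens)
    (hle : g ⁻¹ᵁ U ≤ h ⁻¹ᵁ (f ⁻¹ᵁ U)) :
    (AffAlg.algHom f g h w).app (op U) = h.appLE (f ⁻¹ᵁ U) (g ⁻¹ᵁ U) hle := by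
  obtain ⟨e, he⟩ := algHom_app_eq f g h w U
  rw [he]
  rfl

theorem preimage_le (f : X ⟶ S) (g : Y ⟶ S) (h : Y ⟶ X) (w : h ≫ f = g) (U : S.Opens) :
    g ⁻¹ᵁ U ≤ h ⁻¹ᵁ (f ⁻¹ᵁ U) := by
  subst w
  exact le_rfl

theorem algOf_injective (f : X ⟶ S) [IsAffineHom f] (g : Y ⟶ S) : Function.Injective (AffAlg.algOf f g) := by
  rintro ⟨h₁, w₁⟩ ⟨h₂, w₂⟩ he
  apply Subtype.ext
  refine Groth.Agent.H11Proj.hom_ext_affinePreimage g fun U hU => ?_
  rw [← toSpecΓ_appLE_fromSpec h₁ (hU.preimage f) _ (preimage_le f g h₁ w₁ U),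
    ← toSpecΓ_appLE_fromSpec h₂ (hU.preimage f) _ (preimage_le f g h₂ w₂ U),
    ← algHom_app_eq_appLE f g h₁ w₁, ← algHom_app_eq_appLE f g h₂ w₂]
  have := congrArg (fun ω : AffAlg.algHoms f g => ω.1.app (op U)) he
  exact congrArg (fun a => (g ⁻¹ᵁ U).toSpecΓ ≫ Spec.map a ≫ (hU.preimage f).fromSpec) this

theorem algOf_surjective (f : X ⟶ S) [IsAffineHom f] (g : Y ⟶ S) : Function.Surjective (AffAlg.algOf f g) := by
  rintro ⟨ω, hω⟩
  let m : ∀ (U : S.Opens), IsAffineOpen U → ((g ⁻¹ᵁ U).toScheme ⟶ X) := fun U hU =>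
    (g ⁻¹ᵁ U).toSpecΓ ≫ Spec.map (ω.app (op U)) ≫ (hU.preimage f).fromSpec
  have hm : ∀ (U : S.Opens) (hU : IsAffineOpen U) (V : S.Opens) (hV : IsAffineOpen V) (hle : V ≤ U),
      Y.homOfLE (g.preimage_mono hle) ≫ m U hU = m V hV := by
    intro U hU V hV hle
    have nat : ω.app (op U) ≫ Y.presheaf.map (homOfLE (g.preimage_mono hle)).op =
        X.presheaf.map (homOfLE (f.preimage_mono hle)).op ≫ ω.app (op V) := (ω.naturality (homOfLE hle).op).symm
    simp only [m]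
    rw [← Category.assoc, ← Scheme.Opens.toSpecΓ_SpecMap_presheaf_map _ _ (g.preimage_mono hle), Category.assoc,
      ← Spec.map_comp_assoc, nat, Spec.map_comp_assoc,
      (hU.preimage f).map_fromSpec (hV.preimage f) (homOfLE (f.preimage_mono hle)).op]
  obtain ⟨e, he, -⟩ := Groth.Agent.H11Proj.existsUnique_glue g m
    (fun U hU r => hm U hU _ (hU.basicOpen r) (S.basicOpen_le r))
  have w : e ≫ f = g := by
    refine Groth.Agent.H11Proj.hom_ext_affinePreimage g fun U hU => ?_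
    rw [← Category.assoc, he U hU]
    have hc : f.app U ≫ ω.app (op U) = g.app U := congrArg (fun η => η.app (op U)) hω
    have e1 : (hU.preimage f).fromSpec ≫ f = Spec.map (f.app U) ≫ hU.fromSpec := by
      rw [← IsAffineOpen.SpecMap_appLE_fromSpec f hU (hU.preimage f) le_rfl]
      simp [Scheme.Hom.app_eq_appLE]
    simp only [m, Category.assoc]
    rw [e1, ← Spec.map_comp_assoc, hc, ← Category.assoc, Scheme.Opens.toSpecΓ_naturality, Category.assoc,
      IsAffineOpen.toSpecΓ_fromSpec, morphismRestrict_ι]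
  refine ⟨⟨e, w⟩, Subtype.ext ?_⟩
  refine TopCat.Sheaf.hom_ext (F := AffAlg.alg f) ((TopCat.Sheaf.pushforward CommRingCat g.base).obj Y.sheaf)
    (B := fun U : S.affineOpens => U.1) (by rw [Subtype.range_coe]; exact S.isBasis_affineOpens) fun U => ?_
  change (AffAlg.algHom f g e w).app (op U.1) = ω.app (op U.1)
  rw [algHom_app_eq_appLE f g e w U.1 (preimage_le f g e w U.1)]
  apply eq_of_toSpecΓ
  rw [← cancel_mono (U.2.preimage f).fromSpec, Category.assoc, Category.assoc, toSpecΓ_appLE_fromSpec, he U.1 U.2]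

end Groth.Agent.H11Aff
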