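import Groth.Prelude.Def_RelSpec
import Groth.Prelude.Def_AffAlg
import Groth.Agent.S8255
import Groth.Agent.H11Aff.AlgOf

/-!
# The relative spectrum: charts, morphisms into it, morphisms over a change of base
-/

set_option autoImplicit false
universe u

open CategoryTheory CategoryTheory.Limits AlgebraicGeometry TopologicalSpace Opposite

noncomputable section

namespace Groth.Agent.H11Aff.RelSpecUniv

variable {S : Scheme.{u}} (A : RelSpec.QCAlg S)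

theorem gammaAff_fromSpec (U : S.Opens) (hU : IsAffineOpen U) :
    Spec.map (A.gammaAff U hU) ≫ (hU.preimage A.π).fromSpec = A.ι U hU := by
  rw [RelSpec.QCAlg.gammaAff, Spec.map_comp, Category.assoc,
    IsAffineOpen.SpecMap_appLE_fromSpec (A.ι U hU) (hU.preimage A.π) (isAffineOpen_top _),
    IsAffineOpen.fromSpec_top, Scheme.isoSpec_Spec_inv]
  rw [← Category.assoc, ← Spec.map_comp, Iso.inv_hom_id, Spec.map_id, Category.id_comp]

theorem gammaMap_isIso : IsIso A.gammaMap := Groth.Agent.S8255.result A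

/-- The universal family `A ⟶ π_* O`. -/
def univMap : A.presheaf ⟶ A.π.base _* A.spec.presheaf :=
  haveI := gammaMap_isIso A
  inv A.gammaMap

theorem gammaMap_univMap : A.gammaMap ≫ univMap A = 𝟙 _ := by
  haveI := gammaMap_isIso A
  exact IsIso.hom_inv_id _

theorem univMap_gammaMap : univMap A ≫ A.gammaMap = 𝟙 _ := by
  haveI := gammaMap_isIso A
  exact IsIso.inv_hom_id _

theorem str_univMap : A.str ≫ univMap A = A.π.c := by
  rw [← A.π_c_gammaMap, Category.assoc, gammaMap_univMap, Category.comp_id]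

theorem univMap_gammaAff (U : S.Opens) (hU : IsAffineOpen U) :
    (univMap A).app (op U) ≫ A.gammaAff U hU = 𝟙 _ := by
  rw [← A.gammaMap_app U hU, ← NatTrans.comp_app, univMap_gammaMap]
  rfl

variable {A}

/-- Morphisms out of a relative spectrum are determined by the charts over a covering family of affine opens. -/
theorem hom_ext {X : Scheme.{u}} {a b : A.spec ⟶ X} (P : S.Opens → Prop)
    (hP : ∀ x : S, ∃ U : S.Opens, IsAffineOpen U ∧ P U ∧ x ∈ U)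
    (h : ∀ (U : S.Opens) (hU : IsAffineOpen U), P U → A.ι U hU ≫ a = A.ι U hU ≫ b) : a = b := by
  choose V hV hPV hxV using hP
  refine Scheme.Cover.hom_ext (A.spec.openCoverOfIsOpenCover (fun x : S => A.π ⁻¹ᵁ V x) ?_) _ _ fun x => ?_
  · rw [TopologicalSpace.IsOpenCover]
    refine eq_top_iff.2 fun y _ => ?_
    exact Opens.mem_iSup.2 ⟨A.π.base y, hxV _⟩
  · change (A.π ⁻¹ᵁ V x).ι ≫ a = (A.π ⁻¹ᵁ V x).ι ≫ b
    have e : (A.π ⁻¹ᵁ V x) = (A.ι (V x) (hV x)).opensRange := A.π_preimage _ _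
    have key := h (V x) (hV x) (hPV x)
    have : (A.π ⁻¹ᵁ V x).ι = (IsOpenImmersion.lift (A.ι (V x) (hV x)) (A.π ⁻¹ᵁ V x).ι (by
        rw [Scheme.Opens.range_ι, e]; rfl)) ≫ A.ι (V x) (hV x) := (IsOpenImmersion.lift_fac _ _ _).symm
    rw [this, Category.assoc, key, Category.assoc]

variable {S' : Scheme.{u}} {B : RelSpec.QCAlg S'}

/-- Computation of a morphism of relative spectra on a chart from the ring maps. -/
theorem ι_comp_eq (v : B.spec ⟶ A.spec) (U : S.Opens) (hU : IsAffineOpen U) (U' : S'.Opens) (hU' : IsAffineOpen U')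
    (a : A.presheaf.obj (op U) ⟶ B.presheaf.obj (op U')) (hle : B.π ⁻¹ᵁ U' ≤ v ⁻¹ᵁ (A.π ⁻¹ᵁ U))
    (h : v.appLE (A.π ⁻¹ᵁ U) (B.π ⁻¹ᵁ U') hle ≫ B.gammaAff U' hU' = A.gammaAff U hU ≫ a) :
    B.ι U' hU' ≫ v = Spec.map a ≫ A.ι U hU := by
  rw [← gammaAff_fromSpec B U' hU', ← gammaAff_fromSpec A U hU, Category.assoc,
    ← IsAffineOpen.SpecMap_appLE_fromSpec v (hU.preimage A.π) (hU'.preimage B.π) hle,
    ← Spec.map_comp_assoc, ← Spec.map_comp_assoc, h]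

variable {q : S' ⟶ S}

theorem eq_of_charts {v w : B.spec ⟶ A.spec}
    (a : ∀ (U : S.Opens) (U' : S'.Opens), U' ≤ q ⁻¹ᵁ U → (A.presheaf.obj (op U) ⟶ B.presheaf.obj (op U')))
    (hv : ∀ (U : S.Opens) (hU : IsAffineOpen U) (U' : S'.Opens) (hU' : IsAffineOpen U') (hle : U' ≤ q ⁻¹ᵁ U),
      B.ι U' hU' ≫ v = Spec.map (a U U' hle) ≫ A.ι U hU)
    (hw : ∀ (U : S.Opens) (hU : IsAffineOpen U) (U' : S'.Opens) (hU' : IsAffineOpen U') (hle : U' ≤ q ⁻¹ᵁ U),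
      B.ι U' hU' ≫ w = Spec.map (a U U' hle) ≫ A.ι U hU) : v = w := by
  refine hom_ext (fun U' => ∃ U : S.Opens, IsAffineOpen U ∧ U' ≤ q ⁻¹ᵁ U) ?_ ?_
  · intro x
    obtain ⟨U, hU, hxU, -⟩ := exists_isAffineOpen_mem_and_subset (X := S) (x := q.base x) (U := ⊤) trivial
    obtain ⟨U', hU', hxU', hle⟩ := exists_isAffineOpen_mem_and_subset (X := S') (x := x) (U := q ⁻¹ᵁ U) hxU
    exact ⟨U', hU', ⟨U, hU, hle⟩, hxU'⟩
  · rintro U' hU' ⟨U, hU, hle⟩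
    rw [hv U hU U' hU' hle, hw U hU U' hU' hle]

theorem comp_π_of_charts {v : B.spec ⟶ A.spec}
    (a : ∀ (U : S.Opens) (U' : S'.Opens), U' ≤ q ⁻¹ᵁ U → (A.presheaf.obj (op U) ⟶ B.presheaf.obj (op U')))
    (ha : ∀ (U : S.Opens) (U' : S'.Opens) (hle : U' ≤ q ⁻¹ᵁ U),
      A.str.app (op U) ≫ a U U' hle = q.appLE U U' hle ≫ B.str.app (op U'))
    (hv : ∀ (U : S.Opens) (hU : IsAffineOpen U) (U' : S'.Opens) (hU' : IsAffineOpen U') (hle : U' ≤ q ⁻¹ᵁ U),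
      B.ι U' hU' ≫ v = Spec.map (a U U' hle) ≫ A.ι U hU) : v ≫ A.π = B.π ≫ q := by
  refine hom_ext (fun U' => ∃ U : S.Opens, IsAffineOpen U ∧ U' ≤ q ⁻¹ᵁ U) ?_ ?_
  · intro x
    obtain ⟨U, hU, hxU, -⟩ := exists_isAffineOpen_mem_and_subset (X := S) (x := q.base x) (U := ⊤) trivial
    obtain ⟨U', hU', hxU', hle⟩ := exists_isAffineOpen_mem_and_subset (X := S') (x := x) (U := q ⁻¹ᵁ U) hxU
    exact ⟨U', hU', ⟨U, hU, hle⟩, hxU'⟩
  · rintro U' hU' ⟨U, hU, hle⟩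
    rw [reassoc_of% (hv U hU U' hU' hle), A.ι_π, reassoc_of% (B.ι_π U' hU'), ← Spec.map_comp_assoc, ha,
      Spec.map_comp_assoc, IsAffineOpen.SpecMap_appLE_fromSpec q hU hU' hle]

/-- Existence of `Spec(u)` for a morphism `u : A ⟶ q_* B` over `q`. -/
theorem exists_specMap (u : A.presheaf ⟶ q.base _* B.presheaf)
    (hu : A.str ≫ u = q.c ≫ (TopCat.Presheaf.pushforward CommRingCat.{u} q.base).map B.str) :
    ∃ v : B.spec ⟶ A.spec, v ≫ A.π = B.π ≫ q ∧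
      ∀ (U : S.Opens) (hU : IsAffineOpen U) (U' : S'.Opens) (hU' : IsAffineOpen U') (hle : U' ≤ q ⁻¹ᵁ U),
        B.ι U' hU' ≫ v =
          Spec.map ((u.app (op U) : A.presheaf.obj (op U) ⟶ B.presheaf.obj (op (q ⁻¹ᵁ U))) ≫
            B.presheaf.map (homOfLE hle).op) ≫ A.ι U hU := by
  let ω : AffAlg.alg A.π ⟶ AffAlg.alg (B.π ≫ q) :=
    A.gammaMap ≫ u ≫ (TopCat.Presheaf.pushforward CommRingCat.{u} q.base).map (univMap B)
  have hω : A.π.c ≫ ω = (B.π ≫ q).c := by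
    simp only [ω]
    rw [← Category.assoc, A.π_c_gammaMap, ← Category.assoc, hu, Category.assoc]
    refine Eq.trans (congrArg (q.c ≫ ·) ((TopCat.Presheaf.pushforward CommRingCat.{u} q.base).map_comp _ _).symm) ?_
    rw [str_univMap]
    rfl
  obtain ⟨⟨v, w⟩, hv⟩ := algOf_surjective A.π (B.π ≫ q) ⟨ω, hω⟩
  have hv' : AffAlg.algHom A.π (B.π ≫ q) v w = ω := congrArg Subtype.val hv
  refine ⟨v, w, fun U hU U' hU' hle => ?_⟩
  have h1 : (B.π ≫ q) ⁻¹ᵁ U ≤ v ⁻¹ᵁ (A.π ⁻¹ᵁ U) := preimage_le A.π _ v w U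
  have h2 : B.π ⁻¹ᵁ U' ≤ (B.π ≫ q) ⁻¹ᵁ U := B.π.preimage_mono hle
  refine ι_comp_eq v U hU U' hU' _ (h2.trans h1) ?_
  have e1 : v.appLE (A.π ⁻¹ᵁ U) (B.π ⁻¹ᵁ U') (h2.trans h1) =
      v.appLE (A.π ⁻¹ᵁ U) ((B.π ≫ q) ⁻¹ᵁ U) h1 ≫ B.spec.presheaf.map (homOfLE h2).op := by
    rw [Scheme.Hom.appLE_map]
  have e2 : v.appLE (A.π ⁻¹ᵁ U) ((B.π ≫ q) ⁻¹ᵁ U) h1 = ω.app (op U) := by
    rw [← algHom_app_eq_appLE A.π (B.π ≫ q) v w U h1, hv']
  have e3 : (univMap B).app (op (q ⁻¹ᵁ U)) ≫ B.spec.presheaf.map (homOfLE h2).op =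
      B.presheaf.map (homOfLE hle).op ≫ (univMap B).app (op U') := ((univMap B).naturality (homOfLE hle).op).symm
  rw [e1, e2, ← A.gammaMap_app U hU, Category.assoc]
  change (A.gammaMap.app (op U) ≫ u.app (op U) ≫ (univMap B).app (op (q ⁻¹ᵁ U))) ≫
    B.spec.presheaf.map (homOfLE h2).op ≫ B.gammaAff U' hU' = _
  rw [Category.assoc, Category.assoc, reassoc_of% e3, univMap_gammaAff, Category.comp_id]

end Groth.Agent.H11Aff.RelSpecUniv
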