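import Groth.Agent.H10Coh.FinType
import Groth.Agent.H29Blow.QCohLoc
import Groth.Agent.H17.PrinOmega
import Groth.Prelude.Def_RelSpec2

/-!
# The direct image along an affine morphism is fully faithful on quasi-coherent modules
-/

set_option autoImplicit false
set_option linter.style.haveILetI false

noncomputable section

universe u

open CategoryTheory CategoryTheory.Limits AlgebraicGeometry Opposite TopologicalSpace

namespace Groth.Agent.H11Aff

namespace DirImg

variable {X S : Scheme.{u}} {f : X ⟶ S} [IsAffineHom f] {F G : X.Modules}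

theorem res_res (M : X.Modules) {U V W : X.Opens} (h : V ≤ U) (h' : W ≤ V) (h'' : W ≤ U) (s : Γ(M, U)) :
    M.presheaf.map (homOfLE h').op (M.presheaf.map (homOfLE h).op s) = M.presheaf.map (homOfLE h'').op s :=
  (congr($(M.presheaf.map_comp (homOfLE h).op (homOfLE h').op) s)).symm

theorem res_resX {U V W : X.Opens} (h : V ≤ U) (h' : W ≤ V) (h'' : W ≤ U) (s : Γ(X, U)) :
    X.presheaf.map (homOfLE h').op (X.presheaf.map (homOfLE h).op s) = X.presheaf.map (homOfLE h'').op s :=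
  (congr($(X.presheaf.map_comp (homOfLE h).op (homOfLE h').op) s)).symm

/-- A homomorphism of direct images, on sections. -/
def onSec (φ : (AMod.dirImg f).obj F ⟶ (AMod.dirImg f).obj G) (O : S.Opens) :
    Γ(F, f ⁻¹ᵁ O) →ₗ[Γ(X, f ⁻¹ᵁ O)] Γ(G, f ⁻¹ᵁ O) where
  toFun m := (φ.val.app (op O)).hom m
  map_add' := (φ.val.app (op O)).hom.map_add
  map_smul' r m := (φ.val.app (op O)).hom.map_smul r m

theorem onSec_res (φ : (AMod.dirImg f).obj F ⟶ (AMod.dirImg f).obj G) {O O' : S.Opens} (h : O' ≤ O)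
    (h' : f ⁻¹ᵁ O' ≤ f ⁻¹ᵁ O) (m : Γ(F, f ⁻¹ᵁ O)) :
    onSec φ O' (F.presheaf.map (homOfLE h').op m) = G.presheaf.map (homOfLE h').op (onSec φ O m) :=
  PresheafOfModules.naturality_apply φ.val (homOfLE h).op m

variable (f) in
/-- Basic opens of preimages of affine opens. -/
def Basic (W : X.Opens) : Prop :=
  ∃ (V : S.Opens) (_ : IsAffineOpen V) (g : Γ(X, f ⁻¹ᵁ V)), W = X.basicOpen g

theorem basic_nhd (W : X.Opens) (x : X) (hx : x ∈ W) : ∃ U, Basic f U ∧ x ∈ U ∧ U ≤ W := by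
  obtain ⟨V, hV, hxV, -⟩ := exists_isAffineOpen_mem_and_subset (U := (⊤ : S.Opens)) (x := f.base x) trivial
  obtain ⟨g, hg, hxg⟩ := (hV.preimage f).exists_basicOpen_le (V := W) ⟨x, hx⟩ hxV
  exact ⟨X.basicOpen g, ⟨V, hV, g, rfl⟩, hxg, hg⟩

theorem smul_cancel {W : X.Opens} (M : X.Modules) {r : Γ(X, W)} (hr : IsUnit r) {a b : Γ(M, W)}
    (h : r • a = r • b) : a = b := hr.smul_left_cancel.1 h

theorem isUnit_res_pow {U : X.Opens} (g : Γ(X, U)) {W : X.Opens} (hW : W ≤ X.basicOpen g) (hW' : W ≤ U) (k : ℕ) :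
    IsUnit (X.presheaf.map (homOfLE hW').op (g ^ k)) := by
  rw [map_pow]
  refine IsUnit.pow k ?_
  rw [← res_resX (X.basicOpen_le g) hW hW']
  exact (RingedSpace.isUnit_res_basicOpen X.toRingedSpace g).map (X.presheaf.map (homOfLE hW).op).hom

variable (hF : Coh.IsQCoh F) (φ : (AMod.dirImg f).obj F ⟶ (AMod.dirImg f).obj G)

include hF in
theorem onSec_wd {V : S.Opens} (hV : IsAffineOpen V) {W : X.Opens} (g : Γ(X, f ⁻¹ᵁ V))
    (hW : W ≤ X.basicOpen g) (hW' : W ≤ f ⁻¹ᵁ V) (m : Γ(F, f ⁻¹ᵁ V))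
    (hm : F.presheaf.map (homOfLE (X.basicOpen_le g)).op m = 0) :
    G.presheaf.map (homOfLE hW').op (onSec φ V m) = 0 := by
  obtain ⟨k, hk⟩ := H29Blow.exists_pow_smul_eq_zero F hF (hV.preimage f) g m hm
  refine smul_cancel G (isUnit_res_pow g hW hW' k) ?_
  rw [smul_zero, ← Scheme.Modules.map_smul, ← map_smul, hk, map_zero, map_zero]

include hF in
/-- On a basic open there is at most one value compatible with `φ`. -/
theorem exists_local {W : X.Opens} (hW : Basic f W) (s : Γ(F, W)) :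
    ∃ t : Γ(G, W), ∀ (V : S.Opens) (_ : IsAffineOpen V) (hWV : W ≤ f ⁻¹ᵁ V) (r : Γ(X, W)) (m : Γ(F, f ⁻¹ᵁ V)),
      r • s = F.presheaf.map (homOfLE hWV).op m → r • t = G.presheaf.map (homOfLE hWV).op (onSec φ V m) := by
  haveI : F.IsQuasicoherent := hF
  obtain ⟨V₀, hV₀, g, rfl⟩ := hW
  obtain ⟨n, m₀, hm₀⟩ := H10Coh.exists_pow_smul_eq_res F (hV₀.preimage f) g s
  obtain ⟨v, hv⟩ := isUnit_res_pow g (le_refl _) (X.basicOpen_le g) n
  refine ⟨(↑v⁻¹ : Γ(X, X.basicOpen g)) • G.presheaf.map (homOfLE (X.basicOpen_le g)).op (onSec φ V₀ m₀),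
    fun V hV hWV r m hm => ?_⟩
  refine smul_cancel G v.isUnit ?_
  rw [smul_comm (v : Γ(X, X.basicOpen g)) r, smul_smul (v : Γ(X, X.basicOpen g)), Units.mul_inv, one_smul]
  refine TopCat.Sheaf.eq_of_locally_eq' (⟨G.presheaf, G.isSheaf⟩ : TopCat.Sheaf AddCommGrpCat.{u} X.toTopCat)
    (fun V' : {V' : S.Opens // IsAffineOpen V' ∧ V' ≤ V₀ ⊓ V} => X.basicOpen g ⊓ f ⁻¹ᵁ V'.1) (X.basicOpen g)
    (fun V' => homOfLE inf_le_left) ?_ _ _ fun V' => ?_
  · intro x hx
    obtain ⟨V', hV', hxV', hle⟩ := exists_isAffineOpen_mem_and_subset (U := V₀ ⊓ V) (x := f.base x)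
      ⟨X.basicOpen_le g hx, hWV hx⟩
    exact Opens.mem_iSup.2 ⟨⟨V', hV', hle⟩, hx, hxV'⟩
  obtain ⟨V', hV', hle⟩ := V'
  let D := X.basicOpen g ⊓ f ⁻¹ᵁ V'
  have h0 : f ⁻¹ᵁ V' ≤ f ⁻¹ᵁ V₀ := f.preimage_mono (hle.trans inf_le_left)
  have h1 : f ⁻¹ᵁ V' ≤ f ⁻¹ᵁ V := f.preimage_mono (hle.trans inf_le_right)
  have hD : D ≤ X.basicOpen g := inf_le_left
  have hD' : D ≤ f ⁻¹ᵁ V' := inf_le_right
  let g' := X.presheaf.map (homOfLE h0).op g
  have hg' : X.basicOpen g' = f ⁻¹ᵁ V' ⊓ X.basicOpen g := Scheme.basicOpen_res _ _ _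
  obtain ⟨p, r', hr'⟩ : ∃ (p : ℕ) (r' : Γ(X, f ⁻¹ᵁ V')),
      X.presheaf.map (homOfLE hD').op r' = X.presheaf.map (homOfLE hD').op (g' ^ p) *
        X.presheaf.map (homOfLE hD).op r := by
    haveI := (hV'.preimage f).isLocalization_basicOpen g'
    have eq : X.basicOpen g' ≤ D := fun x hx => ⟨(hg'.le hx).2, (hg'.le hx).1⟩
    have eq' : D ≤ X.basicOpen g' := fun x hx => hg'.ge ⟨hx.2, hx.1⟩
    obtain ⟨p, r', h⟩ := IsLocalization.Away.surj g'
      (X.presheaf.map (homOfLE eq).op (X.presheaf.map (homOfLE hD).op r))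
    refine ⟨p, r', ?_⟩
    have h' := congrArg (fun z => X.presheaf.map (homOfLE eq').op z) h
    simp only [RingHom.algebraMap_toAlgebra, map_mul, map_pow] at h'
    rw [map_pow, mul_comm, ← res_resX (X.basicOpen_le g') eq' hD', ← res_resX (X.basicOpen_le g') eq' hD']
    refine Eq.trans h'.symm ?_
    congr 1
    rw [res_resX eq eq' le_rfl]
    exact congr($(X.presheaf.map_id (op D)) _)
  have hgD : D ≤ X.basicOpen g' := fun x hx => hg'.ge ⟨hx.2, hx.1⟩
  have key : G.presheaf.map (homOfLE hD').op (onSec φ V' (r' • F.presheaf.map (homOfLE h0).op m₀ -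
      (g' ^ (p + n)) • F.presheaf.map (homOfLE h1).op m)) = 0 := by
    refine onSec_wd hF φ hV' g' hgD hD' _ ?_
    have eq : X.basicOpen g' ≤ D := fun x hx => ⟨(hg'.le hx).2, (hg'.le hx).1⟩
    rw [← res_res F hD' eq (X.basicOpen_le g')]
    rw [map_sub, Scheme.Modules.map_smul, Scheme.Modules.map_smul, hr', res_res F h0 hD' (hD'.trans h0),
      res_res F h1 hD' (hD'.trans h1), ← res_res F (X.basicOpen_le g) hD (hD'.trans h0), hm₀,
      ← res_res F hWV hD (hD'.trans h1), ← hm, Scheme.Modules.map_smul, Scheme.Modules.map_smul,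
      res_resX (X.basicOpen_le g) hD (hD'.trans h0), pow_add, map_mul, smul_smul, smul_smul]
    rw [show X.presheaf.map (homOfLE hD').op (g' ^ n) = X.presheaf.map (homOfLE (hD'.trans h0)).op (g ^ n) by
      rw [← map_pow]; exact res_resX h0 hD' _ _]
    rw [mul_right_comm, sub_self, map_zero]
  rw [map_sub, map_smul, map_smul, map_sub, Scheme.Modules.map_smul, Scheme.Modules.map_smul,
    onSec_res φ (hle.trans inf_le_left) h0, onSec_res φ (hle.trans inf_le_right) h1,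
    res_res G h0 hD' (hD'.trans h0), res_res G h1 hD' (hD'.trans h1), sub_eq_zero, hr', pow_add, map_mul,
    show X.presheaf.map (homOfLE hD').op (g' ^ n) = X.presheaf.map (homOfLE (hD'.trans h0)).op (g ^ n) by
      rw [← map_pow]; exact res_resX h0 hD' _ _, mul_smul, mul_smul] at key
  have := smul_cancel G (isUnit_res_pow g' hgD hD' p) key
  show G.presheaf.map (homOfLE hD).op _ = G.presheaf.map (homOfLE hD).op _
  rw [Scheme.Modules.map_smul, Scheme.Modules.map_smul, hv, res_resX (X.basicOpen_le g) hD (hD'.trans h0),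
    res_res G (X.basicOpen_le g) hD (hD'.trans h0), res_res G hWV hD (hD'.trans h1)]
  exact this

include hF in
theorem eq_of_scaled {W : X.Opens} (hW : Basic f W) (s : Γ(F, W)) {t t' : Γ(G, W)}
    (h : ∀ (V : S.Opens) (_ : IsAffineOpen V) (hWV : W ≤ f ⁻¹ᵁ V) (r : Γ(X, W)) (m : Γ(F, f ⁻¹ᵁ V)),
      r • s = F.presheaf.map (homOfLE hWV).op m → r • t = r • t') : t = t' := by
  haveI : F.IsQuasicoherent := hF
  obtain ⟨V₀, hV₀, g, rfl⟩ := hW
  obtain ⟨n, m₀, hm₀⟩ := H10Coh.exists_pow_smul_eq_res F (hV₀.preimage f) g s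
  exact smul_cancel G (isUnit_res_pow g (le_refl _) (X.basicOpen_le g) n)
    (h V₀ hV₀ (X.basicOpen_le g) _ m₀ hm₀.symm)

include hF in
/-- A homomorphism out of a quasi-coherent module is determined on preimages of affine opens. -/
theorem hom_ext {u u' : F ⟶ G}
    (h : ∀ (V : S.Opens), IsAffineOpen V → ∀ m, u.app (f ⁻¹ᵁ V) m = u'.app (f ⁻¹ᵁ V) m) : u = u' := by
  refine Scheme.Modules.hom_ext _ _ fun W => ?_
  ext s
  refine TopCat.Sheaf.eq_of_locally_eq' (⟨G.presheaf, G.isSheaf⟩ : TopCat.Sheaf AddCommGrpCat.{u} X.toTopCat)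
    (fun U : {U : X.Opens // Basic f U ∧ U ≤ W} => U.1) W (fun U => homOfLE U.2.2) ?_ _ _ fun U => ?_
  · intro x hx
    obtain ⟨U, hU, hxU, hle⟩ := basic_nhd (f := f) W x hx
    exact Opens.mem_iSup.2 ⟨⟨U, hU, hle⟩, hxU⟩
  refine (congr($(u.mapPresheaf.naturality (homOfLE U.2.2).op) s)).symm.trans ?_
  refine Eq.trans ?_ (congr($(u'.mapPresheaf.naturality (homOfLE U.2.2).op) s))
  refine eq_of_scaled hF U.2.1 (F.presheaf.map (homOfLE U.2.2).op s) fun V hV hle r m hm => ?_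
  show r • u.app U.1 _ = r • u'.app U.1 _
  refine (u.app_smul r _).symm.trans ((congrArg (u.app U.1) hm).trans ?_)
  refine Eq.trans ?_ ((congrArg (u'.app U.1) hm).symm.trans (u'.app_smul r _))
  refine (congr($(u.mapPresheaf.naturality (homOfLE hle).op) m)).trans ?_
  refine Eq.trans ?_ (congr($(u'.mapPresheaf.naturality (homOfLE hle).op) m)).symm
  exact congrArg (G.presheaf.map (homOfLE hle).op) (h V hV m)

include hF in
theorem exists_hom : ∃ u : F ⟶ G, ∀ (V : S.Opens), IsAffineOpen V → ∀ m, u.app (f ⁻¹ᵁ V) m = onSec φ V m := by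
  choose L hL using fun (W : X.Opens) (hW : Basic f W) (s : Γ(F, W)) => exists_local hF φ hW s
  obtain ⟨u, hu⟩ := H17.PrinOmega.exists_hom_of_basis F G (Basic f) basic_nhd (fun W hW =>
    { toFun := L W hW
      map_add' := fun a b => by
        refine eq_of_scaled hF hW (a + b) fun V hV hle r m hm => ?_
        haveI : F.IsQuasicoherent := hF
        obtain ⟨V₀, hV₀, g, rfl⟩ := id hW
        obtain ⟨i, ma, hma⟩ := H10Coh.exists_pow_smul_eq_res F (hV₀.preimage f) g a
        obtain ⟨j, mb, hmb⟩ := H10Coh.exists_pow_smul_eq_res F (hV₀.preimage f) g b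
        have e : (g ^ j) • ma + (g ^ i) • mb = (g ^ j) • ma + (g ^ i) • mb := rfl
        have ha := hL _ hW a V₀ hV₀ (X.basicOpen_le g) _ ma hma.symm
        have hb := hL _ hW b V₀ hV₀ (X.basicOpen_le g) _ mb hmb.symm
        have hab := hL _ hW (a + b) V₀ hV₀ (X.basicOpen_le g)
          (X.presheaf.map (homOfLE (X.basicOpen_le g)).op (g ^ (i + j))) ((g ^ j) • ma + (g ^ i) • mb) (by
            rw [map_add, Scheme.Modules.map_smul, Scheme.Modules.map_smul, hma, hmb, smul_smul, smul_smul,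
              ← map_mul, ← map_mul, ← pow_add, ← pow_add, smul_add, add_comm j i])
        refine congrArg (r • ·) (smul_cancel G (isUnit_res_pow g (le_refl _) (X.basicOpen_le g) (i + j)) ?_)
        rw [hab, map_add, map_smul, map_smul, map_add, Scheme.Modules.map_smul, Scheme.Modules.map_smul, ← ha, ← hb,
          smul_smul, smul_smul, ← map_mul, ← map_mul, ← pow_add, ← pow_add, smul_add, add_comm j i]
      map_smul' := fun c a => by
        refine eq_of_scaled hF hW (c • a) fun V hV hle r m hm => ?_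
        rw [hL W hW (c • a) V hV hle r m hm, RingHom.id_apply, smul_smul,
          hL W hW a V hV hle (r * c) m ((mul_smul r c a).trans hm)] }) (fun U U' hU hU' e s => by
    refine eq_of_scaled hF hU' (F.presheaf.map (homOfLE e).op s) fun V hV hle r m hm => ?_
    refine congrArg (r • ·) ?_
    haveI : F.IsQuasicoherent := hF
    obtain ⟨V₀, hV₀, g, rfl⟩ := id hU
    obtain ⟨n, m₀, hm₀⟩ := H10Coh.exists_pow_smul_eq_res F (hV₀.preimage f) g s
    refine smul_cancel G (isUnit_res_pow g e (e.trans (X.basicOpen_le g)) n) ?_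
    show _ • L U' hU' _ = _ • G.presheaf.map (homOfLE e).op (L _ hU s)
    rw [hL U' hU' _ V₀ hV₀ (e.trans (X.basicOpen_le g)) _ m₀ (by
      rw [← res_resX (X.basicOpen_le g) e, ← Scheme.Modules.map_smul, ← hm₀, res_res]),
      ← res_resX (X.basicOpen_le g) e, ← Scheme.Modules.map_smul,
      hL _ hU s V₀ hV₀ (X.basicOpen_le g) _ m₀ hm₀.symm, res_res])
  refine ⟨u, fun V hV m => ?_⟩
  have hW : Basic f (f ⁻¹ᵁ V) := ⟨V, hV, 1, (Scheme.basicOpen_of_isUnit _ isUnit_one).symm⟩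
  rw [hu _ hW]
  show L _ hW m = _
  have := hL _ hW m V hV le_rfl 1 m (by rw [one_smul]; exact (congr($(F.presheaf.map_id _) m)).symm)
  rw [one_smul] at this
  exact this.trans (congr($(G.presheaf.map_id _) _))

include hF in
/-- The direct image along an affine morphism is fully faithful on homomorphisms out of a quasi-coherent module. -/
theorem map_bijective :
    Function.Bijective ((AMod.dirImg f).map : (F ⟶ G) → ((AMod.dirImg f).obj F ⟶ (AMod.dirImg f).obj G)) := by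
  refine ⟨fun u u' h => hom_ext (f := f) hF fun V _ m => congr(((SheafOfModules.Hom.val $h).app (op V)).hom m),
    fun φ => ?_⟩
  obtain ⟨u, hu⟩ := exists_hom hF φ
  refine ⟨u, SheafOfModules.hom_ext (PresheafOfModules.hom_ext fun O => ModuleCat.hom_ext
    (LinearMap.ext fun m => ?_))⟩
  obtain ⟨O⟩ := O
  refine TopCat.Sheaf.eq_of_locally_eq' (⟨G.presheaf, G.isSheaf⟩ : TopCat.Sheaf AddCommGrpCat.{u} X.toTopCat)
    (fun V : {V : S.Opens // IsAffineOpen V ∧ V ≤ O} => f ⁻¹ᵁ V.1) (f ⁻¹ᵁ O)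
    (fun V => homOfLE (f.preimage_mono V.2.2)) ?_ _ _ fun V => ?_
  · intro x hx
    obtain ⟨V, hV, hxV, hle⟩ := exists_isAffineOpen_mem_and_subset (U := O) (x := f.base x) hx
    exact Opens.mem_iSup.2 ⟨⟨V, hV, hle⟩, hxV⟩
  show G.presheaf.map (homOfLE (f.preimage_mono V.2.2)).op (u.app (f ⁻¹ᵁ O) m) =
    G.presheaf.map (homOfLE (f.preimage_mono V.2.2)).op (onSec φ O m)
  rw [← onSec_res φ V.2.2, ← hu V.1 V.2.1]
  exact (congr($(u.mapPresheaf.naturality (homOfLE (f.preimage_mono V.2.2)).op) m)).symm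

end DirImg

end Groth.Agent.H11Aff
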