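import Groth.Agent.H17.QAffGen
import Groth.Agent.H11Ample.Global
import Groth.Agent.H29Blow.IdealMod
import Groth.Agent.H17.OmegaLocal
import Groth.Agent.H10Coh.Local

/-!
# Quasi-affine morphisms and the counit `f^* f_* F ⟶ F`
-/

set_option autoImplicit false
set_option linter.style.haveILetI false

noncomputable section

universe u

open CategoryTheory CategoryTheory.Limits AlgebraicGeometry Opposite TopologicalSpace

namespace Groth.Agent.H11Aff

variable {X Y : Scheme.{u}} (f : X ⟶ Y)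

/-- All sections over `f⁻¹ V` are in the image of the counit. -/
theorem counit_app_surjective (F : X.Modules) (V : Y.Opens) :
    Function.Surjective
      (((Scheme.Modules.pullbackPushforwardAdjunction f).counit.app F).app (f ⁻¹ᵁ V)) := by
  intro s
  refine ⟨((Scheme.Modules.pullbackPushforwardAdjunction f).unit.app
    ((Scheme.Modules.pushforward f).obj F)).app V s, ?_⟩
  have h := (Scheme.Modules.pullbackPushforwardAdjunction f).right_triangle_components F
  exact congr($(congrArg (fun k => Scheme.Modules.Hom.app k V) h) s)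

theorem isSeparated_of_isQuasiAffine
    (h : ∀ V : Y.Opens, IsAffineOpen V → (f ⁻¹ᵁ V).toScheme.IsQuasiAffine) : IsSeparated f := by
  refine IsZariskiLocalAtTarget.of_iSup_eq_top (fun V : Y.affineOpens => V.1) (iSup_affineOpens_eq_top Y) ?_
  intro V
  haveI := h V.1 V.2
  infer_instance

/-- Quasi-affine over each affine open: the counit is an epimorphism. -/
theorem epi_counit_of_isQuasiAffine
    (h : ∀ V : Y.Opens, IsAffineOpen V → (f ⁻¹ᵁ V).toScheme.IsQuasiAffine)
    (F : X.Modules) [F.IsQuasicoherent] :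
    Epi ((Scheme.Modules.pullbackPushforwardAdjunction f).counit.app F) := by
  refine H11Tilde.epi_of_locally_surjective _ fun W t x hx => ?_
  obtain ⟨_, ⟨V, hV : IsAffineOpen V, rfl⟩, hxV, -⟩ :=
    Y.isBasis_affineOpens.exists_subset_of_mem_open (Set.mem_univ (f x)) isOpen_univ
  haveI := h V hV
  let Q := f ⁻¹ᵁ V
  let F' := F.restrict Q.ι
  haveI : F'.IsQuasicoherent := Scheme.Modules.isQuasicoherent_restrictFunctor Q.ι F
  obtain ⟨g, -, hgW, hxg⟩ := H17.QAffGen.exists_basicOpen_finite (X := Q.toScheme) (U := Q.ι ⁻¹ᵁ W)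
    (E := {⟨x, hxV⟩}) (fun e he => by rw [Finset.mem_singleton.mp he]; exact hx)
  let V₀ := Q.ι ''ᵁ (Q.toScheme.basicOpen g)
  have hV₀W : V₀ ≤ W := fun _ ⟨z, hz, hzy⟩ => hzy ▸ hgW hz
  refine ⟨V₀, hV₀W, ⟨⟨x, hxV⟩, hxg _ (Finset.mem_singleton_self _), rfl⟩, ?_⟩
  let t' : Γ(F, V₀) := F.presheaf.map (homOfLE hV₀W).op t
  obtain ⟨n, s, hs⟩ := H10Coh.exists_pow_smul_eq_res_of_isCompact F' (W := ⊤) isCompact_univ g t'
  obtain ⟨a, ha⟩ := counit_app_surjective f F V
    (F.presheaf.map (homOfLE (Scheme.Opens.ι_image_top Q).ge).op s)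
  have hle : V₀ ≤ Q := fun _ ⟨z, _, hzy⟩ => hzy ▸ z.2
  have hu : IsUnit ((Q.ι.appIso (Q.toScheme.basicOpen g)).inv
      (Q.toScheme.presheaf.map (homOfLE (Q.toScheme.basicOpen_le g)).op (g ^ n))) := by
    refine IsUnit.map _ ?_
    rw [map_pow]
    exact (Q.toScheme.toRingedSpace.isUnit_res_basicOpen g).pow n
  let M := (Scheme.Modules.pullback f).obj ((Scheme.Modules.pushforward f).obj F)
  refine ⟨(↑hu.unit⁻¹ : Γ(X, V₀)) • M.presheaf.map (homOfLE hle).op a, ?_⟩
  refine (Scheme.Modules.Hom.app_smul _ _ _).trans ?_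
  refine Eq.trans (congrArg ((↑hu.unit⁻¹ : Γ(X, V₀)) • ·)
    ((H11Tilde.app_map_apply ((Scheme.Modules.pullbackPushforwardAdjunction f).counit.app F) hle a).trans
      ((congrArg (F.presheaf.map (homOfLE hle).op) ha).trans
        ((H10Coh.mres_mres F _ hle s).trans hs)))) ?_
  have key : ∀ (c : Γ(X, V₀)) (hc : IsUnit c) (y : Γ(F, V₀)),
      (↑hc.unit⁻¹ : Γ(X, V₀)) • (c • y) = y := fun c hc y => by
    rw [smul_smul, IsUnit.val_inv_mul, one_smul]
  exact key _ hu t'

end Groth.Agent.H11Aff
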