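import Groth.Agent.H10Coh.QCohOps
import Groth.Prelude.Def_AffAlg
import Groth.Prelude.Def_RelSpec2
import Mathlib.AlgebraicGeometry.Morphisms.IsIso

/-!
# Direct images along affine morphisms detect isomorphisms and preserve epimorphisms
-/

set_option autoImplicit false
set_option linter.style.haveILetI false

noncomputable section

universe u

open CategoryTheory CategoryTheory.Limits AlgebraicGeometry Opposite TopologicalSpace

namespace Groth.Agent.H11Aff

namespace AffinePush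

theorem isIso_spec_of_bijective_top {R : CommRingCat.{u}} {M N : (Spec R).Modules} [M.IsQuasicoherent]
    [N.IsQuasicoherent] (f : M ⟶ N) (hf : Function.Bijective (f.app ⊤)) : IsIso f := by
  haveI := Scheme.Modules.isIso_fromTildeΓ_of_isQuasicoherent (R := R) M
  haveI := Scheme.Modules.isIso_fromTildeΓ_of_isQuasicoherent (R := R) N
  have h := (Scheme.Modules.fromTildeΓNatTrans (R := R)).naturality f
  haveI : IsIso ((moduleSpecΓFunctor (R := R)).map f) := (ConcreteCategory.isIso_iff_bijective _).2 hf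
  haveI : IsIso ((tilde.functor R).map ((moduleSpecΓFunctor (R := R)).map f)) := Functor.map_isIso _ _
  haveI : IsIso (M.fromTildeΓ ≫ f) := by
    rw [show M.fromTildeΓ ≫ f = (tilde.functor R).map ((moduleSpecΓFunctor (R := R)).map f) ≫ N.fromTildeΓ
      from h.symm]
    exact @IsIso.comp_isIso _ _ _ _ _ _ _
      (@Functor.map_isIso _ _ _ _ _ _ (tilde.functor R) ((moduleSpecΓFunctor (R := R)).map f) ‹_›)
      ‹IsIso N.fromTildeΓ›
  exact IsIso.of_isIso_comp_left M.fromTildeΓ f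

variable {X : Scheme.{u}} {M N : X.Modules} (φ : M ⟶ N)

theorem bijective_app_of_le [M.IsQuasicoherent] [N.IsQuasicoherent] {U W : X.Opens} (hU : IsAffineOpen U)
    (hW : W ≤ U) (hφ : Function.Bijective (φ.app U)) : Function.Bijective (φ.app W) := by
  let j := hU.fromSpec
  haveI := Scheme.Modules.isQuasicoherent_restrictFunctor j M
  haveI := Scheme.Modules.isQuasicoherent_restrictFunctor j N
  have htop : Function.Bijective (((Scheme.Modules.restrictFunctor j).map φ).app ⊤) := by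
    show Function.Bijective (φ.app (j ''ᵁ ⊤))
    rw [Scheme.Hom.image_top_eq_opensRange, hU.opensRange_fromSpec]
    exact hφ
  haveI := isIso_spec_of_bijective_top ((Scheme.Modules.restrictFunctor j).map φ) htop
  have h := (ConcreteCategory.isIso_iff_bijective _).1
    (Scheme.Modules.Hom.isIso_iff_isIso_app.1
      (inferInstance : IsIso ((Scheme.Modules.restrictFunctor j).map φ)) (j ⁻¹ᵁ W))
  change Function.Bijective (φ.app (j ''ᵁ (j ⁻¹ᵁ W))) at h
  rwa [Scheme.Hom.image_preimage_eq_opensRange_inf, hU.opensRange_fromSpec, inf_eq_right.2 hW] at h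

/-- A morphism of quasi-coherent modules bijective on an affine cover is an isomorphism. -/
theorem isIso_of_affineCover (hM : Coh.IsQCoh M) (hN : Coh.IsQCoh N) {ι : Type u} (U : ι → X.Opens)
    (hU : ∀ i, IsAffineOpen (U i)) (hcov : ∀ x : X, ∃ i, x ∈ U i) (h : ∀ i, Function.Bijective (φ.app (U i))) :
    IsIso φ := by
  haveI : M.IsQuasicoherent := hM
  haveI : N.IsQuasicoherent := hN
  let ψ : (⟨M.presheaf, M.isSheaf⟩ : TopCat.Sheaf AddCommGrpCat.{u} X.toTopCat) ⟶ ⟨N.presheaf, N.isSheaf⟩ :=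
    ⟨φ.mapPresheaf⟩
  haveI : IsIso ψ := by
    refine TopCat.Sheaf.isIso_iff_isIso_basis (B := fun W : {W : X.Opens // ∃ i, W ≤ U i} => W.1) ?_ fun W => ?_
    · rw [Opens.isBasis_iff_nbhd]
      intro W x hx
      obtain ⟨i, hi⟩ := hcov x
      exact ⟨W ⊓ U i, ⟨⟨W ⊓ U i, i, inf_le_right⟩, rfl⟩, ⟨hx, hi⟩, inf_le_left⟩
    · obtain ⟨i, hi⟩ := W.2
      exact (ConcreteCategory.isIso_iff_bijective _).2 (bijective_app_of_le φ (hU i) hi (h i))
  haveI : IsIso φ.mapPresheaf :=
    @Functor.map_isIso _ _ _ _ _ _ (TopCat.Sheaf.forget AddCommGrpCat.{u} X.toTopCat) ψ ‹IsIso ψ›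
  exact Scheme.Modules.Hom.isIso_iff_isIso_app.2 fun W =>
    NatIso.isIso_app_of_isIso φ.mapPresheaf (op W)

variable {S : Scheme.{u}}

/-- Direct image along an affine morphism preserves epimorphisms of quasi-coherent modules. -/
theorem epi_dirImg_map (f : X ⟶ S) [IsAffineHom f] (hM : Coh.IsQCoh M) (hN : Coh.IsQCoh N) [Epi φ] :
    Epi ((AMod.dirImg f).map φ) := by
  haveI : M.IsQuasicoherent := hM
  haveI : N.IsQuasicoherent := hN
  refine ⟨fun {P} w₁ w₂ h => SheafOfModules.hom_ext (PresheafOfModules.hom_ext fun W => ModuleCat.hom_ext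
    (LinearMap.ext fun s => ?_))⟩
  obtain ⟨W⟩ := W
  refine TopCat.Sheaf.eq_of_locally_eq' (⟨P.val.presheaf, P.isSheaf⟩ : TopCat.Sheaf AddCommGrpCat.{u} S.toTopCat)
    (fun V : {V : S.Opens // IsAffineOpen V ∧ V ≤ W} => V.1) W (fun V => homOfLE V.2.2) ?_ _ _ fun V => ?_
  · intro x hx
    obtain ⟨V, hV, hxV, hle⟩ := exists_isAffineOpen_mem_and_subset (U := W) hx
    exact Opens.mem_iSup.2 ⟨⟨V, hV, hle⟩, hxV⟩
  · obtain ⟨t, ht⟩ := H10Coh.surjective_app_of_epi φ (V.2.1.preimage f)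
      ((N.presheaf.map ((Opens.map f.base).map (homOfLE V.2.2)).op) s)
    refine (PresheafOfModules.naturality_apply w₁.val (homOfLE V.2.2).op s).symm.trans ?_
    refine Eq.trans ?_ (PresheafOfModules.naturality_apply w₂.val (homOfLE V.2.2).op s)
    refine (congrArg (w₁.val.app (op V.1)).hom ht.symm).trans ?_
    refine Eq.trans ?_ (congrArg (w₂.val.app (op V.1)).hom ht)
    exact congr(((SheafOfModules.Hom.val $h).app (op V.1)).hom t)

/-- A morphism of schemes affine over the base is an isomorphism if its algebra map is one. -/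
theorem isIso_of_isIso_algHom {Y : Scheme.{u}} (gX : X ⟶ S) [IsAffineHom gX] (gY : Y ⟶ S) [IsAffineHom gY]
    (h : Y ⟶ X) (hh : h ≫ gX = gY) (hω : IsIso (AffAlg.algHom gX gY h hh)) : IsIso h := by
  subst hh
  refine (IsZariskiLocalAtTarget.iff_of_iSup_eq_top (P := MorphismProperty.isomorphisms Scheme)
    (fun V : S.affineOpens => gX ⁻¹ᵁ V.1) ?_).2 fun V => ?_
  · rw [← Scheme.Hom.preimage_iSup, iSup_affineOpens_eq_top, Scheme.Hom.preimage_top]
  · haveI : IsAffine (gX ⁻¹ᵁ V.1 : Scheme.{u}) := V.2.preimage gX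
    rw [HasAffineProperty.iff_of_isAffine (P := MorphismProperty.isomorphisms Scheme)]
    refine ⟨show IsAffineOpen ((h ≫ gX) ⁻¹ᵁ V.1) from V.2.preimage (h ≫ gX), ?_⟩
    have h1 : IsIso ((AffAlg.algHom gX (h ≫ gX) h rfl).app (op V.1)) := inferInstance
    have h2 : IsIso (h.app (gX ⁻¹ᵁ V.1)) := by
      refine (ConcreteCategory.isIso_iff_bijective _).2 ?_
      exact (ConcreteCategory.isIso_iff_bijective _).1 h1
    rw [morphismRestrict_appTop]
    haveI h3 : IsIso (h.app ((gX ⁻¹ᵁ V.1).ι ''ᵁ ⊤)) := by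
      rw [Scheme.Opens.ι_image_top]; exact h2
    refine @IsIso.comp_isIso _ _ _ _ _ _ _ h3 ?_
    rw [eqToHom_op, eqToHom_map]
    refine (eqToIso ?_).isIso_hom
    show Γ(Y, h ⁻¹ᵁ (gX ⁻¹ᵁ V.1).ι ''ᵁ ⊤) = Γ(Y, (h ⁻¹ᵁ gX ⁻¹ᵁ V.1).ι ''ᵁ ⊤)
    rw [Scheme.Opens.ι_image_top, Scheme.Opens.ι_image_top]

end AffinePush

end Groth.Agent.H11Aff
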