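import Groth.Agent.H11Aff.CounitQAff

/-!
# Quasi-affine from surjectivity of the counit
-/

set_option autoImplicit false
set_option linter.style.haveILetI false

noncomputable section

universe u

open CategoryTheory CategoryTheory.Limits AlgebraicGeometry Opposite TopologicalSpace
open Groth.Agent.H11Tilde Groth.Agent.H11Ample

namespace Groth.Agent.H11Aff

variable {X Y : Scheme.{u}} (f : X ⟶ Y)

theorem isQuasiAffine_preimage_of_epi_counit [QuasiCompact f] [IsSeparated f]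
    (h : ∀ F : X.Modules, Coh.IsQCoh F →
      Epi ((Scheme.Modules.pullbackPushforwardAdjunction f).counit.app F))
    {V : Y.Opens} (hV : IsAffineOpen V) : (f ⁻¹ᵁ V).toScheme.IsQuasiAffine := by
  have hQc : IsCompact ((f ⁻¹ᵁ V : X.Opens) : Set X) := f.isCompact_preimage hV.isCompact
  haveI : CompactSpace (f ⁻¹ᵁ V).toScheme := isCompact_iff_compactSpace.1 hQc
  haveI : IsAffine V.toScheme := hV
  haveI hqs : QuasiSeparatedSpace (f ⁻¹ᵁ V).toScheme := quasiSeparatedSpace_of_quasiSeparated (f ∣_ V)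
  have hQs : IsQuasiSeparated ((f ⁻¹ᵁ V : X.Opens) : Set X) :=
    (isQuasiSeparated_iff_quasiSeparatedSpace _ (f ⁻¹ᵁ V).isOpen).2 hqs
  refine Scheme.IsQuasiAffine.of_forall_exists_mem_basicOpen _ fun p => ?_
  obtain ⟨x, hxV⟩ := p
  obtain ⟨_, ⟨U, hU : IsAffineOpen U, rfl⟩, hxU, hUQ⟩ :=
    X.isBasis_affineOpens.exists_subset_of_mem_open hxV (f ⁻¹ᵁ V).isOpen
  let Z : TopologicalSpace.Closeds X := ⟨(U : Set X)ᶜ, U.isOpen.isClosed_compl⟩
  let I : X.IdealSheafData := Scheme.IdealSheafData.vanishingIdeal Z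
  have h1 : (1 : Γ(X, U)) ∈ I.ideal ⟨U, hU⟩ := by
    rw [Scheme.IdealSheafData.vanishingIdeal_ideal]
    have : hU.fromSpec ⁻¹' (Z : Set X) = ∅ := by
      ext p
      refine iff_of_false (fun hp => hp ?_) id
      exact hU.range_fromSpec.le ⟨p, rfl⟩
    exact (PrimeSpectrum.mem_vanishingIdeal _ _).2 fun p hp => absurd (this.le hp) (Set.notMem_empty p)
  let M := ClSub.idealMod I
  haveI hqc : M.IsQuasicoherent := H17.OmegaLocal.isQuasicoherent_idealMod I
  haveI := h M hqc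
  -- a section of the ideal over a neighbourhood of `f x` not vanishing at `x`
  obtain ⟨V₁, hxV₁, a, ha, hxa⟩ : ∃ (V₁ : Y.Opens) (_ : f x ∈ V₁) (a : Γ(X, f ⁻¹ᵁ V₁)),
      (∃ m, OmegaSh.idealSect I (f ⁻¹ᵁ V₁) m = a) ∧ x ∈ X.basicOpen a := by
    by_contra hne
    push Not at hne
    let O := X.presheaf.stalk x
    let L : X.Modules := Coh.structureModule X
    let P : Submodule O (L.presheaf.stalk x) := (IsLocalRing.maximalIdeal O) • ⊤
    let ψ : M ⟶ H06Mod.sky x (L.presheaf.stalk x ⧸ P) :=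
      ClSub.idealModι I ≫ H06Mod.homOfStalk P.mkQ
    have hψ0 : (Scheme.Modules.pushforward f).map ψ = 0 := by
      refine Scheme.Modules.hom_ext _ _ fun V₁ => ?_
      ext m
      refine H06Mod.skyEval_ext (x := x) (N := L.presheaf.stalk x ⧸ P) fun hxW => ?_
      let a : Γ(X, f ⁻¹ᵁ V₁) := OmegaSh.idealSect I (f ⁻¹ᵁ V₁) m
      have hxa := hne V₁ hxW a ⟨m, rfl⟩
      refine ((H06Mod.skyEval_homOfStalk P.mkQ (f ⁻¹ᵁ V₁) hxW
        ((ClSub.idealModι I).app (f ⁻¹ᵁ V₁) m)).trans ?_)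
      refine (Submodule.Quotient.mk_eq_zero P).2 ?_
      have : (ClSub.idealModι I).app (f ⁻¹ᵁ V₁) m = a • one (f ⁻¹ᵁ V₁) := (mul_one a).symm
      rw [this, H06Mod.germ_smul]
      exact Submodule.smul_mem_smul ((IsLocalRing.mem_maximalIdeal _).2 fun hu =>
        hxa ((X.mem_basicOpen a x hxW).2 hu)) Submodule.mem_top
    have hψ : ψ = 0 := by
      rw [← cancel_epi ((Scheme.Modules.pullbackPushforwardAdjunction f).counit.app M), comp_zero]
      refine ((Scheme.Modules.pullbackPushforwardAdjunction f).counit.naturality ψ).symm.trans ?_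
      rw [Functor.comp_map, hψ0, Functor.map_zero]
      exact zero_comp
    obtain ⟨m, hm⟩ := (H29Blow.mem_ideal_iff_exists_idealSect I hU 1).1 h1
    have hm' : (ClSub.idealModι I).app U m = one U := hm
    have he0 : L.presheaf.germ U x hxU (one U) ∈ P := by
      refine (Submodule.Quotient.mk_eq_zero P).1 ?_
      refine Eq.trans ?_ (congrArg (H06Mod.skyEval x _ U hxU)
        (congr($(congrArg (fun k => Scheme.Modules.Hom.app k U) hψ) m)))
      exact ((H06Mod.skyEval_homOfStalk P.mkQ U hxU ((ClSub.idealModι I).app U m)).trans (by rw [hm']; rfl)).symm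
    have hP : P ≤ Submodule.map (LinearMap.toSpanSingleton O _ (L.presheaf.germ U x hxU (one U)))
        (IsLocalRing.maximalIdeal O) := by
      refine Submodule.smul_le.2 fun r hr n _ => ?_
      obtain ⟨c, rfl⟩ := (isGen_one U x hxU).2 n
      exact ⟨r * c, Ideal.mul_mem_right _ _ hr, mul_smul _ _ _⟩
    obtain ⟨c, hc, hce⟩ := hP he0
    have : c = 1 := (isGen_one U x hxU).1 (hce.trans (one_smul _ _).symm)
    exact (IsLocalRing.maximalIdeal.isMaximal O).ne_top ((Ideal.eq_top_iff_one _).2 (this ▸ hc))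
  have hvan : X.basicOpen a ≤ U := by
    intro y hy
    by_contra hyU
    obtain ⟨m, rfl⟩ := ha
    obtain ⟨_, ⟨V₂, hV₂ : IsAffineOpen V₂, rfl⟩, hyV₂, hV₂le : V₂ ≤ f ⁻¹ᵁ V₁⟩ :=
      X.isBasis_affineOpens.exists_subset_of_mem_open (X.basicOpen_le _ hy) (f ⁻¹ᵁ V₁).isOpen
    have hmem : X.presheaf.map (homOfLE hV₂le).op (OmegaSh.idealSect I (f ⁻¹ᵁ V₁) m) ∈ I.ideal ⟨V₂, hV₂⟩ :=
      (H29Blow.mem_ideal_iff_exists_idealSect I hV₂ _).2
        ⟨M.presheaf.map (homOfLE hV₂le).op m, H29Blow.idealSect_res I _ m⟩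
    rw [Scheme.IdealSheafData.vanishingIdeal_ideal, PrimeSpectrum.mem_vanishingIdeal] at hmem
    have hyb : y ∈ X.basicOpen (X.presheaf.map (homOfLE hV₂le).op (OmegaSh.idealSect I (f ⁻¹ᵁ V₁) m)) := by
      rw [Scheme.basicOpen_res]; exact ⟨hyV₂, hy⟩
    obtain ⟨p, hp⟩ := hV₂.range_fromSpec.ge hyV₂
    have hpb : p ∈ hV₂.fromSpec ⁻¹ᵁ
        X.basicOpen (X.presheaf.map (homOfLE hV₂le).op (OmegaSh.idealSect I (f ⁻¹ᵁ V₁) m)) := by
      exact Set.mem_preimage.2 (show hV₂.fromSpec p ∈ (X.basicOpen (X.presheaf.map (homOfLE hV₂le).op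
        (OmegaSh.idealSect I (f ⁻¹ᵁ V₁) m)) : Set X) from Eq.mpr (congrArg (fun q => q ∈
        (X.basicOpen (X.presheaf.map (homOfLE hV₂le).op (OmegaSh.idealSect I (f ⁻¹ᵁ V₁) m)) : Set X)) hp) hyb)
    rw [hV₂.fromSpec_preimage_basicOpen] at hpb
    exact hpb (hmem p (by show hV₂.fromSpec p ∈ (Z : Set X); rw [hp]; exact hyU))
  -- shrink to a basic open of `V` and extend
  obtain ⟨k, hkle, hxk⟩ := hV.exists_basicOpen_le (V := V₁) ⟨f x, hxV₁⟩ hxV
  let hh : Γ(X, f ⁻¹ᵁ V) := f.app V k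
  have hpre : f ⁻¹ᵁ Y.basicOpen k = X.basicOpen hh := Scheme.preimage_basicOpen f k
  have hle1 : X.basicOpen hh ≤ f ⁻¹ᵁ V₁ := hpre.symm.le.trans (f.preimage_mono hkle)
  let a' : Γ(X, X.basicOpen hh) := X.presheaf.map (homOfLE hle1).op a
  haveI := isLocalization_basicOpen_of_qcqs hQc hQs hh
  obtain ⟨⟨b, ⟨_, n, rfl⟩⟩, hb⟩ := IsLocalization.surj (Submonoid.powers hh) a'
  let c : Γ(X, f ⁻¹ᵁ V) := b * hh
  have hu : IsUnit (X.presheaf.map (homOfLE (X.basicOpen_le hh)).op hh) :=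
    X.toRingedSpace.isUnit_res_basicOpen hh
  have hbc : X.basicOpen c = X.basicOpen a' := by
    have e : X.basicOpen c = X.basicOpen (X.presheaf.map (homOfLE (X.basicOpen_le hh)).op b) := by
      rw [Scheme.basicOpen_mul, Scheme.basicOpen_res, inf_comm]
    rw [e]
    have hb' : a' * (X.presheaf.map (homOfLE (X.basicOpen_le hh)).op (hh ^ n)) =
        X.presheaf.map (homOfLE (X.basicOpen_le hh)).op b := hb
    rw [← hb', Scheme.basicOpen_mul, map_pow, X.basicOpen_of_isUnit (hu.pow n)]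
    exact inf_eq_left.2 (X.basicOpen_le a')
  have hca : X.basicOpen c = X.basicOpen hh ⊓ X.basicOpen a := by
    rw [hbc, Scheme.basicOpen_res]
  have hcU : X.basicOpen c ≤ U := hca.le.trans (inf_le_right.trans hvan)
  have hxc : x ∈ X.basicOpen c := hca.ge ⟨hpre.le hxk, hxa⟩
  have hcaff : IsAffineOpen (X.basicOpen c) := by
    have e : X.basicOpen (X.presheaf.map (homOfLE (show U ≤ f ⁻¹ᵁ V from hUQ)).op c) = X.basicOpen c := by
      rw [Scheme.basicOpen_res]; exact inf_eq_right.2 hcU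
    exact e ▸ hU.basicOpen _
  refine ⟨(f ⁻¹ᵁ V).topIso.inv c, ?_, ?_⟩
  · rw [← (f ⁻¹ᵁ V).ι.isAffineOpen_iff_of_isOpenImmersion, Scheme.Opens.ι_image_basicOpen_topIso_inv]
    exact hcaff
  · exact Scheme.Opens.mem_basicOpen_toScheme.2 (by
      have := (Scheme.Opens.ι_image_basicOpen_topIso_inv (U := f ⁻¹ᵁ V) c).ge hxc
      obtain ⟨z, hz, hzx⟩ := this
      have hz' : z = ⟨x, hxV⟩ := Subtype.ext hzx
      exact Scheme.Opens.mem_basicOpen_toScheme.1 (hz' ▸ hz))

end Groth.Agent.H11Aff
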