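import Groth.Agent.H10Coh.QCohExt
import Groth.Agent.H10Coh.QcqsPush
import Groth.Agent.H11Aff.AffinePushIso
import Groth.Agent.H17.BMod.Colim

/-!
# Direct images along affine morphisms commute with colimits of quasi-coherent modules
-/

set_option autoImplicit false
set_option linter.style.haveILetI false

noncomputable section

universe u

open CategoryTheory CategoryTheory.Limits AlgebraicGeometry Opposite TopologicalSpace

namespace Groth.Agent.H11Aff

namespace DirImgColim

/-- Sections over an open, as abelian groups. -/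
abbrev secAb {X : Scheme.{u}} (U : X.Opens) : X.Modules ⥤ AddCommGrpCat.{u} :=
  Scheme.Modules.toPresheaf X ⋙ (evaluation _ _).obj (op U)

variable {J : Type u} [SmallCategory J]

/-- Global sections over an affine scheme commute with colimits of quasi-coherent modules. -/
def isColimitΓSpec {R : CommRingCat.{u}} (D : J ⥤ (Spec R).Modules) (hD : ∀ j, (D.obj j).IsQuasicoherent)
    (c : Cocone D) (hc : IsColimit c) (hpt : c.pt.IsQuasicoherent) :
    IsColimit ((moduleSpecΓFunctor (R := R)).mapCocone c) := by
  haveI : ∀ j, IsIso (D.obj j).fromTildeΓ := fun j =>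
    @Scheme.Modules.isIso_fromTildeΓ_of_isQuasicoherent R (D.obj j) (hD j)
  haveI : IsIso c.pt.fromTildeΓ := @Scheme.Modules.isIso_fromTildeΓ_of_isQuasicoherent R c.pt hpt
  let e : (D ⋙ moduleSpecΓFunctor (R := R)) ⋙ tilde.functor R ≅ D :=
    NatIso.ofComponents (fun j => @asIso _ _ _ _ (D.obj j).fromTildeΓ
      (@Scheme.Modules.isIso_fromTildeΓ_of_isQuasicoherent R (D.obj j) (hD j)))
      fun {i j} φ => Scheme.Modules.fromTildeΓNatTrans.naturality (D.map φ)
  refine isColimitOfReflects (tilde.functor R) (IsColimit.ofIsoColimit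
    ((IsColimit.precomposeHomEquiv e c).symm hc) (Cocone.ext (asIso c.pt.fromTildeΓ).symm fun j => ?_))
  show ((D.obj j).fromTildeΓ ≫ c.ι.app j) ≫ inv c.pt.fromTildeΓ =
    (tilde.functor R).map ((moduleSpecΓFunctor (R := R)).map (c.ι.app j))
  rw [IsIso.comp_inv_eq]
  exact (Scheme.Modules.fromTildeΓNatTrans.naturality (c.ι.app j)).symm

variable {X S : Scheme.{u}}

/-- Sections over an affine open commute with colimits of quasi-coherent modules. -/
def isColimitSec (D : J ⥤ X.Modules) (hD : ∀ j, (D.obj j).IsQuasicoherent) {U : X.Opens} (hU : IsAffineOpen U) :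
    IsColimit ((secAb U).mapCocone (colimit.cocone D)) := by
  let G := Scheme.Modules.restrictFunctor hU.fromSpec
  let Γ' := moduleSpecΓFunctor (R := Γ(X, U)) ⋙ forget₂ (ModuleCat.{u} Γ(X, U)) AddCommGrpCat.{u}
  have h1 : IsColimit ((moduleSpecΓFunctor (R := Γ(X, U))).mapCocone (G.mapCocone (colimit.cocone D))) :=
    isColimitΓSpec (D ⋙ G) (fun j => @Scheme.Modules.isQuasicoherent_restrictFunctor _ _ hU.fromSpec _ (D.obj j) (hD j))
      _ (isColimitOfPreserves G (colimit.isColimit D))
      (@Scheme.Modules.isQuasicoherent_restrictFunctor _ _ hU.fromSpec _ (colimit D)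
        (H10Coh.isQuasicoherent_colimit D hD))
  have h2 : IsColimit ((G ⋙ Γ').mapCocone (colimit.cocone D)) :=
    isColimitOfPreserves (forget₂ (ModuleCat.{u} Γ(X, U)) AddCommGrpCat.{u}) h1
  have e : hU.fromSpec ''ᵁ ⊤ = U := by
    rw [Scheme.Hom.image_top_eq_opensRange, hU.opensRange_fromSpec]
  let i : G ⋙ Γ' ≅ secAb U := NatIso.ofComponents (fun M => M.presheaf.mapIso (eqToIso (congrArg op e)))
    (fun {M N} φ => (φ.mapPresheaf.naturality (eqToHom (congrArg op e))).symm)
  exact IsColimit.mapCoconeEquiv i h2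

/-- The direct image along an affine morphism commutes with colimits of quasi-coherent modules. -/
theorem preservesColimit_pushforward (f : X ⟶ S) [IsAffineHom f] (D : J ⥤ X.Modules)
    (hD : ∀ j, (D.obj j).IsQuasicoherent) : PreservesColimit D (Scheme.Modules.pushforward f) := by
  let F := Scheme.Modules.pushforward f
  have hDF : ∀ j, ((D ⋙ F).obj j).IsQuasicoherent := fun j =>
    @H10Coh.isQuasicoherent_pushforward _ _ f _ _ (D.obj j) (hD j)
  let ψ : colimit (D ⋙ F) ⟶ F.obj (colimit D) := colimit.desc (D ⋙ F) (F.mapCocone (colimit.cocone D))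
  have hq : Coh.IsQCoh (F.obj (colimit D)) :=
    @H10Coh.isQuasicoherent_pushforward _ _ f _ _ (colimit D) (H10Coh.isQuasicoherent_colimit D hD)
  haveI : IsIso ψ := by
    refine AffinePush.isIso_of_affineCover ψ (H10Coh.isQuasicoherent_colimit (D ⋙ F) hDF) hq
      (fun V : S.affineOpens => V.1) (fun V => V.2) (fun x => by
        obtain ⟨V, hV, hxV, -⟩ := exists_isAffineOpen_mem_and_subset (U := (⊤ : S.Opens)) (x := x) trivial
        exact ⟨⟨V, hV⟩, hxV⟩) fun V => ?_
    let hA := isColimitSec (D ⋙ F) hDF V.2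
    let hB : IsColimit ((secAb V.1).mapCocone (F.mapCocone (colimit.cocone D))) :=
      isColimitSec D hD (V.2.preimage f)
    have hψ : (secAb V.1).map ψ = (hA.coconePointUniqueUpToIso hB).hom := hA.hom_ext fun j => by
      rw [IsColimit.comp_coconePointUniqueUpToIso_hom]
      exact ((secAb V.1).map_comp _ _).symm.trans
        (congrArg (secAb V.1).map (colimit.ι_desc (F.mapCocone (colimit.cocone D)) j))
    haveI : IsIso ((secAb V.1).map ψ) := by rw [hψ]; infer_instance
    exact ConcreteCategory.bijective_of_isIso ((secAb V.1).map ψ)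
  exact preservesColimit_of_preserves_colimit_cocone (colimit.isColimit D)
    (IsColimit.ofPointIso (colimit.isColimit (D ⋙ F)) (i := ‹IsIso ψ›))

/-- The direct image as modules over the direct-image algebra commutes with such colimits. -/
theorem preservesColimit_dirImg (f : X ⟶ S) [IsAffineHom f] (D : J ⥤ X.Modules)
    (hD : ∀ j, (D.obj j).IsQuasicoherent) : PreservesColimit D (AMod.dirImg f) := by
  haveI := preservesColimit_pushforward f D hD
  haveI := H17.BMod.preservesColimitsOfShape_restrictScalars (AMod.strHom (RelSpec.QCAlg.directImage f)) J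
  haveI : PreservesColimitsOfShape J (AMod.toOS (RelSpec.QCAlg.directImage f)) := ‹_›
  haveI : PreservesColimit D (AMod.dirImg f ⋙ AMod.toOS (RelSpec.QCAlg.directImage f)) :=
    (inferInstance : PreservesColimit D (Scheme.Modules.pushforward f))
  haveI : (AMod.toOS (RelSpec.QCAlg.directImage f)).ReflectsIsomorphisms := by
    refine ⟨fun {M N} φ _ => ?_⟩
    haveI : IsIso ((SheafOfModules.toSheaf.{u} _).map φ) :=
      @Functor.map_isIso _ _ _ _ _ _ (SheafOfModules.toSheaf.{u} S.ringCatSheaf)
        ((AMod.toOS (RelSpec.QCAlg.directImage f)).map φ) ‹_›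
    exact isIso_of_reflects_iso φ (SheafOfModules.toSheaf.{u} _)
  haveI : ReflectsColimitsOfShape J (AMod.toOS (RelSpec.QCAlg.directImage f)) :=
    reflectsColimitsOfShape_of_reflectsIsomorphisms
  exact preservesColimit_of_reflects_of_preserves (AMod.dirImg f) (AMod.toOS (RelSpec.QCAlg.directImage f))

end DirImgColim

end Groth.Agent.H11Aff
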