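import Groth.Agent.H11Aff.AffinePushIso
import Groth.Agent.H11Tilde.RelLimit
import Groth.Agent.H11Tilde.Local
import Groth.Agent.H10Coh.FinType
import Groth.Agent.H10Coh.QcqsPush
import Groth.Agent.H29Blow.QCohLoc
import Groth.Agent.H17.PrinOmega

/-!
# Quasi-coherent modules over the algebra of an affine morphism are direct images
-/

set_option autoImplicit false
set_option linter.style.haveILetI false

noncomputable section

universe u

open CategoryTheory CategoryTheory.Limits AlgebraicGeometry Opposite TopologicalSpace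

namespace Groth.Agent.H11Aff

namespace EssSurj

section comparison

variable {R R' : CommRingCat.{u}} {N : ModuleCat.{u} R} {N' : ModuleCat.{u} R'}

/-- The elements of a module as sections of the associated sheaf. -/
def el (N : ModuleCat.{u} R) (O : (Spec R).Opens) (x : N) : Γ(tilde N, O) := (tilde.toOpen N O).hom x

theorem el_res (N : ModuleCat.{u} R) {O O' : (Spec R).Opens} (h : O' ≤ O) (x : N) :
    (tilde N).presheaf.map (homOfLE h).op (el N O x) = el N O' x := rfl

theorem el_smul (N : ModuleCat.{u} R) (O : (Spec R).Opens) (r : R) (x : N) :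
    el N O (r • x) = (Spec R).presheaf.map O.leTop.op ((Scheme.ΓSpecIso R).inv r) • el N O x :=
  (tilde.toOpen N O).hom.map_smul r x

theorem el_top_bijective (N : ModuleCat.{u} R) : Function.Bijective (el N ⊤) :=
  ConcreteCategory.bijective_of_isIso (tilde.toOpen N ⊤)

theorem exists_cmp (ρ : R ⟶ R') (g : N →+ N') (hg : ∀ (r : R) (x : N), g (r • x) = ρ.hom r • g x) :
    ∃ φ : tilde N ⟶ (Scheme.Modules.pushforward (Spec.map ρ)).obj (tilde N'),
      ∀ (O : (Spec R).Opens) (x : N), φ.app O (el N O x) = el N' (Spec.map ρ ⁻¹ᵁ O) (g x) := by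
  let T := (Scheme.Modules.pushforward (Spec.map ρ)).obj (tilde N')
  let l₀ : N →ₗ[R] Γ(T, ⊤) :=
    { toFun := fun x => (show Γ(tilde N', Spec.map ρ ⁻¹ᵁ (⊤ : (Spec R).Opens)) from el N' ⊤ (g x))
      map_add' := fun a b => (congrArg (el N' ⊤) (map_add g a b)).trans (map_add (tilde.toOpen N' ⊤).hom _ _)
      map_smul' := fun r x => by
        refine (congrArg (el N' ⊤) (hg r x)).trans ((el_smul N' ⊤ (ρ.hom r) (g x)).trans ?_)
        show _ = (Spec.map ρ).app ⊤ ((Spec R).presheaf.map (⊤ : (Spec R).Opens).leTop.op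
          ((Scheme.ΓSpecIso R).inv r)) • (show Γ(tilde N', Spec.map ρ ⁻¹ᵁ (⊤ : (Spec R).Opens)) from el N' ⊤ (g x))
        congr 1
        rw [show (⊤ : (Spec R).Opens).leTop = 𝟙 _ from Subsingleton.elim _ _,
          show (⊤ : (Spec R').Opens).leTop = 𝟙 _ from Subsingleton.elim _ _, op_id, op_id]
        erw [CategoryTheory.Functor.map_id, CategoryTheory.Functor.map_id]
        exact congr($(Scheme.ΓSpecIso_inv_naturality ρ) r) }
  let l : N ⟶ (moduleSpecΓFunctor (R := R)).obj T := @ModuleCat.ofHom R _ N Γ(T, ⊤) _ _ _ _ l₀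
  let φ : tilde N ⟶ T := ((tilde.adjunction (R := R)).homEquiv N T).symm l
  refine ⟨φ, fun O x => ?_⟩
  have h := ((tilde.adjunction (R := R)).homEquiv N T).apply_symm_apply l
  rw [Adjunction.homEquiv_unit] at h
  have htop : φ.app ⊤ (el N ⊤ x) = el N' ⊤ (g x) := congr(($h).hom x)
  have hn := congr($(φ.mapPresheaf.naturality (homOfLE (le_top : O ≤ ⊤)).op) (el N ⊤ x))
  refine (congrArg (φ.app O) (el_res N (le_top : O ≤ ⊤) x).symm).trans (hn.trans ?_)
  refine (congrArg (T.presheaf.map (homOfLE (le_top : O ≤ ⊤)).op) htop).trans ?_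
  exact el_res N' (le_top : Spec.map ρ ⁻¹ᵁ O ≤ ⊤) (g x)

end comparison

variable {X S : Scheme.{u}} (f : X ⟶ S) [IsAffineHom f]
  (M : AMod (RelSpec.QCAlg.directImage f))

/-- The chart over an affine open of the base. -/
def jn (U : S.AffineZariskiSite) : Spec Γ(X, f ⁻¹ᵁ U.1) ⟶ X := (U.2.preimage f).fromSpec

instance (U : S.AffineZariskiSite) : IsOpenImmersion (jn f U) :=
  inferInstanceAs (IsOpenImmersion (U.2.preimage f).fromSpec)

theorem jn_range (U : S.AffineZariskiSite) : (jn f U).opensRange = f ⁻¹ᵁ U.1 := (U.2.preimage f).opensRange_fromSpec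

theorem jn_preimage (U : S.AffineZariskiSite) : jn f U ⁻¹ᵁ (f ⁻¹ᵁ U.1) = ⊤ :=
  (congrArg (jn f U ⁻¹ᵁ ·) (jn_range f U).symm).trans (Scheme.Hom.preimage_opensRange _)

/-- The sections of the module over an affine open, as a module over the functions upstairs. -/
def modOn (U : S.AffineZariskiSite) : ModuleCat.{u} Γ(X, f ⁻¹ᵁ U.1) := M.val.obj (op U.1)

/-- The restriction of functions upstairs. -/
def rho {U V : S.AffineZariskiSite} (h : V ≤ U) : Γ(X, f ⁻¹ᵁ U.1) ⟶ Γ(X, f ⁻¹ᵁ V.1) :=
  X.presheaf.map (homOfLE (f.preimage_mono (Scheme.AffineZariskiSite.toOpens_mono h))).op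

theorem jn_comp {U V : S.AffineZariskiSite} (h : V ≤ U) : Spec.map (rho f h) ≫ jn f U = jn f V :=
  (U.2.preimage f).map_fromSpec (V.2.preimage f) _

/-- The restriction map of the module. -/
def resOn {U V : S.AffineZariskiSite} (h : V ≤ U) : modOn f M U →+ modOn f M V :=
  ((M.val.map (homOfLE (Scheme.AffineZariskiSite.toOpens_mono h)).op).hom : _ →ₗ[_] _).toAddMonoidHom

theorem resOn_smul {U V : S.AffineZariskiSite} (h : V ≤ U) (r : Γ(X, f ⁻¹ᵁ U.1)) (x : modOn f M U) :
    resOn f M h (r • x) = (rho f h).hom r • resOn f M h x :=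
  M.val.map_smul (homOfLE (Scheme.AffineZariskiSite.toOpens_mono h)).op r x

theorem resOn_self (U : S.AffineZariskiSite) (x : modOn f M U) : resOn f M (le_refl U) x = x :=
  congr($(M.val.presheaf.map_id (op U.1)) x)

theorem resOn_comp {U V T : S.AffineZariskiSite} (h : V ≤ U) (h' : T ≤ V) (x : modOn f M U) :
    resOn f M h' (resOn f M h x) = resOn f M (h'.trans h) x :=
  (congr($(M.val.presheaf.map_comp (homOfLE (Scheme.AffineZariskiSite.toOpens_mono h)).op
    (homOfLE (Scheme.AffineZariskiSite.toOpens_mono h')).op) x)).symm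

/-- The local module pushed forward to `X`. -/
def piece (U : S.AffineZariskiSite) : X.Modules :=
  (Scheme.Modules.pushforward (jn f U)).obj (tilde (modOn f M U))

/-- The section of the local module given by an element. -/
def sec (U : S.AffineZariskiSite) (W : X.Opens) (x : modOn f M U) : Γ(piece f M U, W) :=
  el (modOn f M U) (jn f U ⁻¹ᵁ W) x

theorem sec_res (U : S.AffineZariskiSite) {W W' : X.Opens} (h : W' ≤ W) (x : modOn f M U) :
    (piece f M U).presheaf.map (homOfLE h).op (sec f M U W x) = sec f M U W' x := rfl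

theorem exists_transfer {U V : S.AffineZariskiSite} (h : V ≤ U) :
    ∃ T : piece f M U ⟶ piece f M V, ∀ (W : X.Opens) (x : modOn f M U),
      T.app W (sec f M U W x) = sec f M V W (resOn f M h x) := by
  obtain ⟨φ, hφ⟩ := exists_cmp (rho f h) (resOn f M h) (resOn_smul f M h)
  unfold piece sec
  rw [← jn_comp f h]
  exact ⟨(Scheme.Modules.pushforward (jn f U)).map φ ≫
    (Scheme.Modules.pushforwardComp (Spec.map (rho f h)) (jn f U)).hom.app _,
    fun W x => hφ (jn f U ⁻¹ᵁ W) x⟩

theorem isUnit_jn_app (U : S.AffineZariskiSite) (g : Γ(X, f ⁻¹ᵁ U.1)) (W : X.Opens) (hW : W ≤ X.basicOpen g) :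
    IsUnit (X.presheaf.map (homOfLE (hW.trans (X.basicOpen_le g))).op g) := by
  have : X.presheaf.map (homOfLE (hW.trans (X.basicOpen_le g))).op g =
      X.presheaf.map (homOfLE hW).op (X.presheaf.map (homOfLE (X.basicOpen_le g)).op g) :=
    congr($(X.presheaf.map_comp (homOfLE (X.basicOpen_le g)).op (homOfLE hW).op) g)
  rw [this]
  exact (RingedSpace.isUnit_res_basicOpen X.toRingedSpace g).map (X.presheaf.map (homOfLE hW).op).hom

theorem sec_smul (U : S.AffineZariskiSite) {W : X.Opens} (hW : W ≤ f ⁻¹ᵁ U.1) (r : Γ(X, f ⁻¹ᵁ U.1))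
    (x : modOn f M U) : sec f M U W (r • x) = X.presheaf.map (homOfLE hW).op r • sec f M U W x := by
  refine (el_smul (modOn f M U) (jn f U ⁻¹ᵁ W) r x).trans ?_
  show _ = (jn f U).app W (X.presheaf.map (homOfLE hW).op r) • el (modOn f M U) (jn f U ⁻¹ᵁ W) x
  congr 1
  rw [← ConcreteCategory.comp_apply (X.presheaf.map (homOfLE hW).op), Scheme.Hom.naturality,
    ConcreteCategory.comp_apply]
  change _ = (Spec Γ(X, f ⁻¹ᵁ U.1)).presheaf.map _ ((U.2.preimage f).fromSpec.app (f ⁻¹ᵁ U.1) r)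
  rw [(U.2.preimage f).fromSpec_app_self, ← ConcreteCategory.comp_apply, ← ConcreteCategory.comp_apply,
    Category.assoc, ← Functor.map_comp]
  rfl

theorem exists_sec_eq (U : S.AffineZariskiSite) (g : Γ(X, f ⁻¹ᵁ U.1)) (s : Γ(piece f M U, X.basicOpen g)) :
    ∃ (n : ℕ) (x : modOn f M U), X.presheaf.map (homOfLE (X.basicOpen_le g)).op (g ^ n) • s =
      sec f M U (X.basicOpen g) x := by
  have e : jn f U ⁻¹ᵁ X.basicOpen g = PrimeSpectrum.basicOpen g := (U.2.preimage f).fromSpec_preimage_basicOpen g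
  obtain ⟨n, y, hy⟩ := H10Coh.exists_pow_smul_eq_res_Spec (tilde (modOn f M U)) g
    ((tilde (modOn f M U)).presheaf.map (homOfLE e.ge).op s)
  obtain ⟨x, rfl⟩ := (el_top_bijective (modOn f M U)).2 y
  refine ⟨n, x, ?_⟩
  have hinj : Function.Injective ((tilde (modOn f M U)).presheaf.map (homOfLE e.ge).op) := by
    haveI : IsIso (homOfLE e.ge) := homOfLE_isIso_of_eq _ e.symm
    exact (ConcreteCategory.bijective_of_isIso ((tilde (modOn f M U)).presheaf.map (homOfLE e.ge).op)).1
  refine hinj ?_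
  refine Eq.trans ?_ (hy.symm.trans (el_res _ _ x))
  show (tilde (modOn f M U)).presheaf.map (homOfLE e.ge).op
    ((jn f U).app _ (X.presheaf.map (homOfLE (X.basicOpen_le g)).op (g ^ n)) • _) = _
  rw [Scheme.Modules.map_smul, Scheme.Modules.smul_Spec_def]
  congr 1
  rw [← ConcreteCategory.comp_apply (X.presheaf.map (homOfLE (X.basicOpen_le g)).op), Scheme.Hom.naturality,
    ConcreteCategory.comp_apply, ← ConcreteCategory.comp_apply _ ((Spec Γ(X, f ⁻¹ᵁ U.1)).presheaf.map (homOfLE e.ge).op),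
    ← Functor.map_comp]
  change (Spec Γ(X, f ⁻¹ᵁ U.1)).presheaf.map _ ((U.2.preimage f).fromSpec.app (f ⁻¹ᵁ U.1) (g ^ n)) = _
  rw [(U.2.preimage f).fromSpec_app_self, ← ConcreteCategory.comp_apply, ← ConcreteCategory.comp_apply,
    Category.assoc, ← Functor.map_comp]
  rfl

theorem piece_supp (U : S.AffineZariskiSite) (W : X.Opens) :
    Function.Bijective ((piece f M U).presheaf.map (homOfLE (inf_le_left : W ⊓ f ⁻¹ᵁ U.1 ≤ W)).op) := by
  let j := jn f U
  have e : j ⁻¹ᵁ (W ⊓ f ⁻¹ᵁ U.1) = j ⁻¹ᵁ W := by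
    refine le_antisymm (j.preimage_mono inf_le_left) fun y hy => ?_
    exact ⟨hy, (jn_range f U).le ⟨y, rfl⟩⟩
  haveI : IsIso (homOfLE (j.preimage_mono (inf_le_left : W ⊓ f ⁻¹ᵁ U.1 ≤ W))) := homOfLE_isIso_of_eq _ e
  exact ConcreteCategory.bijective_of_isIso
    ((tilde (modOn f M U)).presheaf.map (homOfLE (j.preimage_mono (inf_le_left : W ⊓ f ⁻¹ᵁ U.1 ≤ W))).op)

/-- Morphisms between local modules are determined by elements. -/
theorem piece_hom_ext {U V : S.AffineZariskiSite} (h : V ≤ U) {T T' : piece f M U ⟶ piece f M V}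
    (hT : ∀ (W : X.Opens) (x : modOn f M U), T.app W (sec f M U W x) = T'.app W (sec f M U W x)) : T = T' := by
  refine Scheme.Modules.hom_ext _ _ fun W => ?_
  ext s
  refine (piece_supp f M V W).1 ?_
  have hVU : f ⁻¹ᵁ V.1 ≤ f ⁻¹ᵁ U.1 := f.preimage_mono (Scheme.AffineZariskiSite.toOpens_mono h)
  refine TopCat.Sheaf.eq_of_locally_eq' (⟨(piece f M V).presheaf, (piece f M V).isSheaf⟩ : TopCat.Sheaf _ X.toTopCat)
    (fun g : {g : Γ(X, f ⁻¹ᵁ U.1) // X.basicOpen g ≤ W ⊓ f ⁻¹ᵁ V.1} => X.basicOpen g.1) (W ⊓ f ⁻¹ᵁ V.1)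
    (fun g => homOfLE g.2) ?_ _ _ fun g => ?_
  · intro y hy
    obtain ⟨g, hg, hyg⟩ := (U.2.preimage f).exists_basicOpen_le (V := W ⊓ f ⁻¹ᵁ V.1) ⟨y, hy⟩ (hVU hy.2)
    exact Opens.mem_iSup.2 ⟨⟨g, hg⟩, hyg⟩
  · obtain ⟨g, hg⟩ := g
    have hgW : X.basicOpen g ≤ W := hg.trans inf_le_left
    obtain ⟨n, x, hx⟩ := exists_sec_eq f M U g ((piece f M U).presheaf.map (homOfLE hgW).op s)
    have key : ∀ Q : piece f M U ⟶ piece f M V,
        (piece f M V).presheaf.map (homOfLE hg).op
          ((piece f M V).presheaf.map (homOfLE (inf_le_left : W ⊓ f ⁻¹ᵁ V.1 ≤ W)).op (Q.app W s)) =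
        Q.app (X.basicOpen g) ((piece f M U).presheaf.map (homOfLE hgW).op s) := fun Q => by
      refine Eq.trans ?_ (congr($(Q.mapPresheaf.naturality (homOfLE hgW).op) s)).symm
      exact (congr($((piece f M V).presheaf.map_comp (homOfLE (inf_le_left : W ⊓ f ⁻¹ᵁ V.1 ≤ W)).op
        (homOfLE hg).op) (Q.app W s))).symm
    refine (key T).trans (Eq.trans ?_ (key T').symm)
    have hu : IsUnit (X.presheaf.map (homOfLE (X.basicOpen_le g)).op (g ^ n)) := by
      rw [map_pow]
      exact (isUnit_jn_app f U g (X.basicOpen g) le_rfl).pow n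
    refine hu.smul_left_cancel.1 ?_
    rw [← Scheme.Modules.Hom.app_smul, ← Scheme.Modules.Hom.app_smul, hx]
    exact hT _ x

/-- A chosen comparison. -/
def transfer {U V : S.AffineZariskiSite} (h : V ≤ U) : piece f M U ⟶ piece f M V := (exists_transfer f M h).choose

theorem transfer_sec {U V : S.AffineZariskiSite} (h : V ≤ U) (W : X.Opens) (x : modOn f M U) :
    (transfer f M h).app W (sec f M U W x) = sec f M V W (resOn f M h x) := (exists_transfer f M h).choose_spec W x

/-- The diagram of local modules. -/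
def diagram : S.AffineZariskiSiteᵒᵖ ⥤ X.Modules where
  obj U := piece f M U.unop
  map i := transfer f M i.unop.le
  map_id U := piece_hom_ext f M le_rfl fun W x =>
    (transfer_sec f M _ W x).trans (congrArg (sec f M U.unop W) (resOn_self f M U.unop x))
  map_comp {U V T} i j := piece_hom_ext f M (i ≫ j).unop.le fun W x => by
    refine (transfer_sec f M _ W x).trans ?_
    refine Eq.trans ?_ ((congrArg ((transfer f M j.unop.le).app W) (transfer_sec f M i.unop.le W x)).trans
      (transfer_sec f M j.unop.le W _)).symm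
    exact congrArg (sec f M T.unop W) (resOn_comp f M i.unop.le j.unop.le x).symm

variable (hM : Coh.IsQCoh ((AMod.toOS (RelSpec.QCAlg.directImage f)).obj M))

include hM in
theorem transfer_bijective {U : S.Opens} (hU : IsAffineOpen U) (r : Γ(S, U)) (h : Scheme.AffineZariskiSite.basicOpen (⟨U, hU⟩ : S.AffineZariskiSite) r ≤ (⟨U, hU⟩ : S.AffineZariskiSite)) (W : X.Opens) (hW : W ≤ f ⁻¹ᵁ S.basicOpen r) :
    Function.Bijective ((transfer f M h).app W) := by
  haveI : ((AMod.toOS (RelSpec.QCAlg.directImage f)).obj M).IsQuasicoherent := hM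
  let U₀ : S.AffineZariskiSite := ⟨U, hU⟩
  let V₀ : S.AffineZariskiSite := ⟨S.basicOpen r, hU.basicOpen r⟩
  let g : Γ(X, f ⁻¹ᵁ U) := f.app U r
  have hg : X.basicOpen g = f ⁻¹ᵁ S.basicOpen r := (Scheme.preimage_basicOpen f r).symm
  have hgle : f ⁻¹ᵁ S.basicOpen r ≤ f ⁻¹ᵁ U := f.preimage_mono (S.basicOpen_le r)
  have hgu : ∀ k : ℕ, IsUnit (X.presheaf.map (homOfLE hgle).op (g ^ k)) := fun k => by
    rw [map_pow]
    exact (isUnit_jn_app f U₀ g _ hg.ge).pow k
  have hnat : ∀ k : ℕ, f.app (S.basicOpen r) (S.presheaf.map (homOfLE (S.basicOpen_le r)).op (r ^ k)) =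
      X.presheaf.map (homOfLE hgle).op (g ^ k) := fun k => by
    rw [← ConcreteCategory.comp_apply, Scheme.Hom.naturality, ConcreteCategory.comp_apply, map_pow (f.app U).hom]
    rfl
  have htop : Function.Bijective ((transfer f M h).app (f ⁻¹ᵁ S.basicOpen r)) := by
    have hdense : ∀ s : Γ(piece f M U₀, f ⁻¹ᵁ S.basicOpen r), ∃ (n : ℕ) (x : modOn f M U₀),
        X.presheaf.map (homOfLE hgle).op (g ^ n) • s = sec f M U₀ (f ⁻¹ᵁ S.basicOpen r) x := fun s => by
      obtain ⟨n, x, hx⟩ := exists_sec_eq f M U₀ g ((piece f M U₀).presheaf.map (homOfLE hg.le).op s)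
      refine ⟨n, x, ?_⟩
      haveI : IsIso (homOfLE hg.le) := homOfLE_isIso_of_eq _ hg
      refine (ConcreteCategory.bijective_of_isIso ((piece f M U₀).presheaf.map (homOfLE hg.le).op)).1 ?_
      refine (Scheme.Modules.map_smul _ _ _ _).trans (Eq.trans ?_ (hx.trans (sec_res f M U₀ hg.le x).symm))
      congr 1
      exact (congr($(X.presheaf.map_comp (homOfLE hgle).op (homOfLE hg.le).op) (g ^ n))).symm
    constructor
    · rw [injective_iff_map_eq_zero]
      intro s hs
      obtain ⟨n, x, hx⟩ := hdense s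
      refine (hgu n).smul_left_cancel.1 ?_
      rw [smul_zero, hx]
      have h0 := (Scheme.Modules.Hom.app_smul (transfer f M h) _ s).symm.trans (congrArg _ hx)
      rw [hs, smul_zero, transfer_sec] at h0
      have hb : Function.Injective (sec f M V₀ (f ⁻¹ᵁ S.basicOpen r)) := by
        intro a b hab
        have e : jn f V₀ ⁻¹ᵁ (f ⁻¹ᵁ S.basicOpen r) = ⊤ := jn_preimage f V₀
        refine (el_top_bijective (modOn f M V₀)).1 ?_
        rw [← el_res _ e.ge, ← el_res _ e.ge]
        exact congrArg _ hab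
      have hx0 : resOn f M h x = 0 := hb (h0.symm.trans (map_zero (tilde.toOpen _ _).hom).symm)
      obtain ⟨l, hl⟩ := H29Blow.exists_pow_smul_eq_zero ((AMod.toOS (RelSpec.QCAlg.directImage f)).obj M) hM
        hU r x hx0
      have hl' : (g ^ l) • x = (0 : modOn f M U₀) := by
        rw [show g ^ l = f.app U (r ^ l) from (map_pow (f.app U).hom r l).symm]
        exact hl
      refine (hgu l).smul_left_cancel.1 ?_
      rw [← sec_smul f M U₀ hgle, hl', smul_zero]
      exact map_zero (tilde.toOpen _ _).hom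
    · intro t
      have e : jn f V₀ ⁻¹ᵁ (f ⁻¹ᵁ S.basicOpen r) = ⊤ := jn_preimage f V₀
      obtain ⟨y, hy⟩ : ∃ y : modOn f M V₀, sec f M V₀ (f ⁻¹ᵁ S.basicOpen r) y = t := by
        obtain ⟨y, hy⟩ := (el_top_bijective (modOn f M V₀)).2 ((tilde (modOn f M V₀)).presheaf.map (homOfLE e.ge).op t)
        refine ⟨y, ?_⟩
        haveI : IsIso (homOfLE e.ge) := homOfLE_isIso_of_eq _ e.symm
        exact (ConcreteCategory.bijective_of_isIso ((tilde (modOn f M V₀)).presheaf.map (homOfLE e.ge).op)).1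
          ((el_res _ _ y).trans hy)
      obtain ⟨n, x, hx⟩ := H10Coh.exists_pow_smul_eq_res ((AMod.toOS (RelSpec.QCAlg.directImage f)).obj M) hU r y
      obtain ⟨v, hv⟩ := hgu n
      refine ⟨(↑v⁻¹ : Γ(X, f ⁻¹ᵁ S.basicOpen r)) • sec f M U₀ (f ⁻¹ᵁ S.basicOpen r) x, v.isUnit.smul_left_cancel.1 ?_⟩
      rw [Scheme.Modules.Hom.app_smul, smul_smul (v : Γ(X, f ⁻¹ᵁ S.basicOpen r)), Units.mul_inv, one_smul,
        transfer_sec, hv, ← hy, ← hnat]
      refine (congrArg (sec f M V₀ (f ⁻¹ᵁ S.basicOpen r)) (show resOn f M h x =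
        f.app (S.basicOpen r) (S.presheaf.map (homOfLE (S.basicOpen_le r)).op (r ^ n)) • y from hx)).trans ?_
      refine (sec_smul f M V₀ le_rfl _ y).trans ?_
      congr 1
      exact congr($(X.presheaf.map_id _) _)
  -- both sides are quasi-coherent below the open
  let O := f ⁻¹ᵁ S.basicOpen r
  haveI hOU : ((piece f M U₀).restrict (jn f V₀)).IsQuasicoherent := by
    haveI : IsOpenImmersion (Spec.map (rho f h)) := by
      haveI : IsOpenImmersion (Spec.map (rho f h) ≫ jn f U₀) := by rw [jn_comp f h]; infer_instance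
      exact IsOpenImmersion.of_comp _ (jn f U₀)
    haveI := Scheme.Modules.isQuasicoherent_restrictFunctor (Spec.map (rho f h)) (tilde (modOn f M U₀))
    refine H10Coh.isQuasicoherent_of_iso (M := (tilde (modOn f M U₀)).restrict (Spec.map (rho f h))) ?_
    exact (Scheme.Modules.restrictFunctor (Spec.map (rho f h))).mapIso
      (asIso ((Scheme.Modules.restrictAdjunction (jn f U₀)).counit.app (tilde (modOn f M U₀)))).symm ≪≫
      ((Scheme.Modules.restrictFunctorComp (Spec.map (rho f h)) (jn f U₀)).app (piece f M U₀)).symm ≪≫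
      (Scheme.Modules.restrictFunctorCongr (jn_comp f h)).app (piece f M U₀)
  haveI : ((𝟭 (Spec Γ(X, f ⁻¹ᵁ V₀.1)).Modules).obj (tilde (modOn f M V₀))).IsQuasicoherent :=
    inferInstanceAs (tilde (modOn f M V₀)).IsQuasicoherent
  haveI hOV : ((piece f M V₀).restrict (jn f V₀)).IsQuasicoherent :=
    H10Coh.isQuasicoherent_of_iso
      (asIso ((Scheme.Modules.restrictAdjunction (jn f V₀)).counit.app (tilde (modOn f M V₀)))).symm
  have hTtop : Function.Bijective (((Scheme.Modules.restrictFunctor (jn f V₀)).map (transfer f M h)).app ⊤) := by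
    show Function.Bijective ((transfer f M h).app (jn f V₀ ''ᵁ ⊤))
    rw [Scheme.Hom.image_top_eq_opensRange, jn_range]
    exact htop
  have hIso := @AffinePush.isIso_spec_of_bijective_top _ _ _ hOU hOV
    ((Scheme.Modules.restrictFunctor (jn f V₀)).map (transfer f M h)) hTtop
  have hb := (ConcreteCategory.isIso_iff_bijective _).1 (Scheme.Modules.Hom.isIso_iff_isIso_app.1
    hIso (jn f V₀ ⁻¹ᵁ W))
  change Function.Bijective ((transfer f M h).app (jn f V₀ ''ᵁ (jn f V₀ ⁻¹ᵁ W))) at hb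
  rwa [Scheme.Hom.image_preimage_eq_opensRange_inf, jn_range, inf_eq_right.2 hW] at hb

include hM in
theorem diagram_bij {U V : S.AffineZariskiSite} (i : V ⟶ U) (W : X.Opens) (hW : W ≤ f ⁻¹ᵁ V.1) :
    Function.Bijective (((diagram f M).map i.op).app W) := by
  obtain ⟨U, hU⟩ := U
  obtain ⟨V, hV⟩ := V
  obtain ⟨r, hr⟩ : ∃ r : Γ(S, U), S.basicOpen r = V := i.le
  subst hr
  exact transfer_bijective f M hM hU r i.le W hW

include hM in
theorem π_bijective (U : S.AffineZariskiSite) (W : X.Opens) (hW : W ≤ f ⁻¹ᵁ U.1) :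
    Function.Bijective ((limit.π (diagram f M) (op U)).app W) :=
  H11Tilde.bijective_limit_π f (diagram f M) (piece_supp f M) (diagram_bij f M hM) U W hW

theorem π_res (U : S.AffineZariskiSite) {W W' : X.Opens} (h : W' ≤ W) (s : Γ(limit (diagram f M), W)) :
    (limit.π (diagram f M) (op U)).app W' ((limit (diagram f M)).presheaf.map (homOfLE h).op s) =
      (piece f M U).presheaf.map (homOfLE h).op ((limit.π (diagram f M) (op U)).app W s) :=
  congr($((limit.π (diagram f M) (op U)).mapPresheaf.naturality (homOfLE h).op) s)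

theorem π_transfer {U V : S.AffineZariskiSite} (h : V ≤ U) (W : X.Opens) (s : Γ(limit (diagram f M), W)) :
    (limit.π (diagram f M) (op V)).app W s = (transfer f M h).app W ((limit.π (diagram f M) (op U)).app W s) :=
  (congr($(congrArg (fun φ => Scheme.Modules.Hom.app φ W) (limit.w (diagram f M) (homOfLE h).op)) s)).symm

/-- The section of the limit given by an element. -/
def theta (U : S.AffineZariskiSite) (x : modOn f M U) : Γ(limit (diagram f M), f ⁻¹ᵁ U.1) :=
  ((π_bijective f M hM U _ le_rfl).2 (sec f M U (f ⁻¹ᵁ U.1) x)).choose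

theorem theta_spec (U : S.AffineZariskiSite) (x : modOn f M U) :
    (limit.π (diagram f M) (op U)).app (f ⁻¹ᵁ U.1) (theta f M hM U x) = sec f M U (f ⁻¹ᵁ U.1) x :=
  ((π_bijective f M hM U _ le_rfl).2 (sec f M U (f ⁻¹ᵁ U.1) x)).choose_spec

theorem theta_add (U : S.AffineZariskiSite) (a b : modOn f M U) :
    theta f M hM U (a + b) = theta f M hM U a + theta f M hM U b := by
  refine (π_bijective f M hM U _ le_rfl).1 ?_
  refine (theta_spec f M hM U (a + b)).trans (Eq.trans ?_ (map_add _ _ _).symm)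
  refine Eq.trans ?_ (congrArg₂ (· + ·) (theta_spec f M hM U a) (theta_spec f M hM U b)).symm
  exact map_add (tilde.toOpen _ _).hom a b

theorem theta_smul (U : S.AffineZariskiSite) (c : Γ(X, f ⁻¹ᵁ U.1)) (x : modOn f M U) :
    theta f M hM U (c • x) = c • theta f M hM U x := by
  refine (π_bijective f M hM U _ le_rfl).1 ?_
  refine (theta_spec f M hM U (c • x)).trans (Eq.trans ?_ (Scheme.Modules.Hom.app_smul _ _ _).symm)
  refine Eq.trans ?_ (congrArg (fun z : Γ(piece f M U, f ⁻¹ᵁ U.1) => c • z) (theta_spec f M hM U x)).symm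
  refine (sec_smul f M U le_rfl c x).trans ?_
  congr 1
  exact congr($(X.presheaf.map_id _) c)

theorem theta_res {U U' : S.AffineZariskiSite} (e : U'.1 ≤ U.1) (s : modOn f M U) :
    theta f M hM U' ((M.val.map (homOfLE e).op).hom s) =
      (limit (diagram f M)).presheaf.map (homOfLE (f.preimage_mono e)).op (theta f M hM U s) := by
  refine TopCat.Sheaf.eq_of_locally_eq'
    (⟨(limit (diagram f M)).presheaf, (limit (diagram f M)).isSheaf⟩ : TopCat.Sheaf _ X.toTopCat)
    (fun D : {D : S.AffineZariskiSite // D ≤ U ∧ D ≤ U'} => f ⁻¹ᵁ D.1.1) (f ⁻¹ᵁ U'.1)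
    (fun D => homOfLE (f.preimage_mono (Scheme.AffineZariskiSite.toOpens_mono D.2.2))) ?_ _ _ fun D => ?_
  · intro x hx
    obtain ⟨D, h₁, h₂, hxD⟩ := H11Tilde.exists_le_both (U := U) (V := U') (x := f.base x) (e hx) hx
    exact Opens.mem_iSup.2 ⟨⟨D, h₁, h₂⟩, hxD⟩
  · obtain ⟨D, hDU, hDU'⟩ := D
    refine (π_bijective f M hM D _ le_rfl).1 ?_
    refine (π_res f M D _ _).trans ?_
    refine Eq.trans ?_ ((π_res f M D _ _).trans (congrArg _ (π_res f M D _ _))).symm
    refine (congrArg _ ((π_transfer f M hDU' _ _).trans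
      ((congrArg _ (theta_spec f M hM U' _)).trans (transfer_sec f M hDU' _ _)))).trans ?_
    refine Eq.trans ?_ (congrArg _ (congrArg _ ((π_transfer f M hDU _ _).trans
      ((congrArg _ (theta_spec f M hM U s)).trans (transfer_sec f M hDU _ _))))).symm
    refine congrArg (sec f M D _) ?_
    exact (congr($(M.val.presheaf.map_comp (homOfLE e).op
      (homOfLE (Scheme.AffineZariskiSite.toOpens_mono hDU')).op) s)).symm

theorem theta_bijective (U : S.AffineZariskiSite) : Function.Bijective (theta f M hM U) := by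
  have e : jn f U ⁻¹ᵁ (f ⁻¹ᵁ U.1) = ⊤ := jn_preimage f U
  constructor
  · intro a b hab
    have := (theta_spec f M hM U a).symm.trans ((congrArg _ hab).trans (theta_spec f M hM U b))
    refine (el_top_bijective (modOn f M U)).1 ?_
    rw [← el_res _ e.ge, ← el_res _ e.ge]
    exact congrArg _ this
  · intro t
    obtain ⟨y, hy⟩ := (el_top_bijective (modOn f M U)).2
      ((tilde (modOn f M U)).presheaf.map (homOfLE e.ge).op ((limit.π (diagram f M) (op U)).app _ t))
    refine ⟨y, (π_bijective f M hM U _ le_rfl).1 ((theta_spec f M hM U y).trans ?_)⟩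
    haveI : IsIso (homOfLE e.ge) := homOfLE_isIso_of_eq _ e.symm
    exact (ConcreteCategory.bijective_of_isIso
      ((tilde (modOn f M U)).presheaf.map (homOfLE e.ge).op)).1 ((el_res _ _ y).trans hy)

include hM in
theorem isQCoh_limit : Coh.IsQCoh (limit (diagram f M)) :=
  H11Tilde.isQuasicoherent_of_openImmersions (fun U : S.AffineZariskiSite => jn f U)
    (fun x => by
      obtain ⟨V, hV, hxV, -⟩ := exists_isAffineOpen_mem_and_subset (U := (⊤ : S.Opens)) (x := f.base x) trivial
      exact ⟨⟨V, hV⟩, (jn_range f ⟨V, hV⟩).ge hxV⟩) (limit (diagram f M)) fun U =>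
    H10Coh.isQuasicoherent_of_iso (H11Tilde.isoOfBijectiveApp (F := tilde (modOn f M U)) (jn f U)
      (limit.π (diagram f M) (op U)) fun W hW => π_bijective f M hM U W (hW.trans (jn_range f U).le)).symm

include hM in
theorem exists_toOS_iso :
    ∃ α : (AMod.toOS (RelSpec.QCAlg.directImage f)).obj M ⟶ (Scheme.Modules.pushforward f).obj (limit (diagram f M)),
      IsIso α ∧ ∀ (V : S.Opens) (hV : IsAffineOpen V) (x : modOn f M ⟨V, hV⟩),
        α.app V x = theta f M hM ⟨V, hV⟩ x := by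
  obtain ⟨α, hα⟩ := H17.PrinOmega.exists_hom_of_basis ((AMod.toOS (RelSpec.QCAlg.directImage f)).obj M)
    ((Scheme.Modules.pushforward f).obj (limit (diagram f M))) IsAffineOpen
    (fun W x hx => by
      obtain ⟨V, hV, hxV, hle⟩ := exists_isAffineOpen_mem_and_subset (U := W) hx
      exact ⟨V, hV, hxV, hle⟩)
    (fun U hU =>
      { toFun := theta f M hM ⟨U, hU⟩
        map_add' := theta_add f M hM ⟨U, hU⟩
        map_smul' := fun r a => theta_smul f M hM ⟨U, hU⟩ (f.app U r) a })
    (fun U U' hU hU' e s => theta_res f M hM (U := ⟨U, hU⟩) (U' := ⟨U', hU'⟩) e s)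
  refine ⟨α, ?_, hα⟩
  haveI : (limit (diagram f M)).IsQuasicoherent := isQCoh_limit f M hM
  refine AffinePush.isIso_of_affineCover α hM (H10Coh.isQuasicoherent_pushforward f _)
    (fun V : S.affineOpens => V.1) (fun V => V.2) (fun x => by
      obtain ⟨V, hV, hxV, -⟩ := exists_isAffineOpen_mem_and_subset (U := (⊤ : S.Opens)) (x := x) trivial
      exact ⟨⟨V, hV⟩, hxV⟩) fun V => ?_
  refine Eq.mpr (congrArg Function.Bijective (funext (hα V.1 V.2))) (theta_bijective f M hM ⟨V.1, V.2⟩)

include hM in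
/-- A quasi-coherent module over the algebra of an affine morphism is a direct image. -/
theorem exists_iso : ∃ F : X.Modules, Coh.IsQCoh F ∧ Nonempty ((AMod.dirImg f).obj F ≅ M) := by
  refine ⟨limit (diagram f M), isQCoh_limit f M hM, ?_⟩
  obtain ⟨α, hiso, hα⟩ := exists_toOS_iso f M hM
  have hlin : ∀ (O : S.Opens) (c : (AMod.ringSheaf (RelSpec.QCAlg.directImage f)).obj.obj (op O))
      (x : M.val.obj (op O)), α.app O ((c • x : M.val.obj (op O))) =
        ((show Γ(X, f ⁻¹ᵁ O) from c) • (show Γ(limit (diagram f M), f ⁻¹ᵁ O) from α.app O x) :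
          Γ(limit (diagram f M), f ⁻¹ᵁ O)) := by
    intro O c x
    refine TopCat.Sheaf.eq_of_locally_eq'
      (⟨(limit (diagram f M)).presheaf, (limit (diagram f M)).isSheaf⟩ : TopCat.Sheaf _ X.toTopCat)
      (fun V : {V : S.Opens // IsAffineOpen V ∧ V ≤ O} => f ⁻¹ᵁ V.1) (f ⁻¹ᵁ O)
      (fun V => homOfLE (f.preimage_mono V.2.2)) ?_ _ _ fun V => ?_
    · intro y hy
      obtain ⟨V, hV, hyV, hle⟩ := exists_isAffineOpen_mem_and_subset (U := O) (x := f.base y) hy
      exact Opens.mem_iSup.2 ⟨⟨V, hV, hle⟩, hyV⟩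
    · refine (congr($(α.mapPresheaf.naturality (homOfLE V.2.2).op) (c • x : M.val.obj (op O)))).symm.trans ?_
      refine Eq.trans ?_ (Scheme.Modules.map_smul (limit (diagram f M)) (homOfLE (f.preimage_mono V.2.2))
        (show Γ(X, f ⁻¹ᵁ O) from c) (show Γ(limit (diagram f M), f ⁻¹ᵁ O) from α.app O x)).symm
      refine Eq.trans ?_ (congrArg (fun z : Γ(limit (diagram f M), f ⁻¹ᵁ V.1) =>
        X.presheaf.map (homOfLE (f.preimage_mono V.2.2)).op c • z)
          (congr($(α.mapPresheaf.naturality (homOfLE V.2.2).op) x)))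
      refine (congrArg (α.app V.1) (M.val.map_smul (homOfLE V.2.2).op c x)).trans ?_
      refine (hα V.1 V.2.1 _).trans ((theta_smul f M hM ⟨V.1, V.2.1⟩ _ _).trans ?_)
      exact congrArg (fun z : Γ(limit (diagram f M), f ⁻¹ᵁ V.1) =>
        X.presheaf.map (homOfLE (f.preimage_mono V.2.2)).op c • z) (hα V.1 V.2.1 _).symm
  let e : ∀ O : S.Opensᵒᵖ, M.val.obj O ≅ ((AMod.dirImg f).obj (limit (diagram f M))).val.obj O := fun O =>
    (LinearEquiv.ofBijective
      ({ toFun := fun x => α.app O.unop x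
         map_add' := fun a b => map_add (α.app O.unop).hom a b
         map_smul' := fun c x => hlin O.unop c x } :
        M.val.obj O →ₗ[(AMod.ringSheaf (RelSpec.QCAlg.directImage f)).obj.obj O]
          ((AMod.dirImg f).obj (limit (diagram f M))).val.obj O)
      ((ConcreteCategory.isIso_iff_bijective (α.app O.unop)).1
        (Scheme.Modules.Hom.isIso_iff_isIso_app.1 hiso O.unop))).toModuleIso
  exact ⟨((SheafOfModules.fullyFaithfulForget _).preimageIso
    (PresheafOfModules.isoMk e fun O O' i => by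
      ext x
      exact congr($(α.mapPresheaf.naturality i) x))).symm⟩

end EssSurj

end Groth.Agent.H11Aff
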