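import Groth.Agent.H15Site.LocGen
import Groth.Agent.H10Coh.FinType2
import Groth.Agent.H29Blow.QCohLoc
import Groth.Agent.H29Blow.PointsOfAffine
import Groth.Prelude.Def_RelSpec2

/-!
# Finite type of a direct image along an affine morphism, over the direct image algebra
-/

set_option autoImplicit false
set_option linter.style.haveILetI false

noncomputable section

universe u

open CategoryTheory CategoryTheory.Limits AlgebraicGeometry Opposite TopologicalSpace

namespace Groth.Agent.H11Aff.DirImgFinType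

open H15Site ModTensor

variable {X S : Scheme.{u}} (f : X ⟶ S) [IsAffineHom f] (F : X.Modules)

/-- The direct image algebra as a sheaf of commutative rings. -/
abbrev algSheaf : Sheaf (Opens.grothendieckTopology S) CommRingCat.{u} :=
  ⟨(RelSpec.QCAlg.directImage f).presheaf, (RelSpec.QCAlg.directImage f).isSheaf⟩

/-- The direct image as a module on the site of opens. -/
abbrev dmod : ModSite.Mod (algSheaf f) := (AMod.dirImg f).obj F

variable {n : ℕ} {U : S.Opens}

/-- Sections over the preimage of `U` generating the direct image locally on `U`. -/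
def GenOn (s : Fin n → Γ(F, f ⁻¹ᵁ U)) : Prop :=
  ∀ (V : S.Opens) (hV : V ≤ U) (t : Γ(F, f ⁻¹ᵁ V)), ∀ x ∈ V, ∃ (W : S.Opens) (hW : W ≤ V),
    x ∈ W ∧ ∃ r : Fin n → Γ(X, f ⁻¹ᵁ W), F.presheaf.map (homOfLE (f.preimage_mono hW)).op t =
      ∑ i, r i • F.presheaf.map (homOfLE (f.preimage_mono (hW.trans hV))).op (s i)

theorem gen_iff (s : Fin n → Γ(F, f ⁻¹ᵁ U)) :
    LocGen.Gen (O := algSheaf f) (F := dmod f F) (U := U) s ↔ GenOn f F s := by
  constructor
  · intro h V hV t x hx
    obtain ⟨T, hT, hT'⟩ := h (homOfLE hV) t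
    obtain ⟨W, a, ha, hxW⟩ := hT x hx
    obtain ⟨r, hr⟩ := hT' a ha
    exact ⟨W, leOfHom a, hxW, r, hr⟩
  · intro h V g t
    refine ⟨⟨fun W a => ∃ r : Fin n → Γ(X, f ⁻¹ᵁ W),
        F.presheaf.map (homOfLE (f.preimage_mono (leOfHom a))).op t =
          ∑ i, r i • F.presheaf.map (homOfLE (f.preimage_mono ((leOfHom a).trans (leOfHom g)))).op (s i),
      fun {W W'} a ⟨r, hr⟩ b => ⟨fun i => X.presheaf.map (homOfLE (f.preimage_mono (leOfHom b))).op (r i), ?_⟩⟩,
      fun x hx => ?_, fun W a ha => ha⟩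
    · have h2 := congrArg (F.presheaf.map (homOfLE (f.preimage_mono (leOfHom b))).op) hr
      rw [map_sum] at h2
      simp only [Scheme.Modules.map_smul, ← ConcreteCategory.comp_apply, ← Functor.map_comp, ← op_comp,
        homOfLE_comp] at h2
      exact h2
    · obtain ⟨W, hW, hxW, r, hr⟩ := h V (leOfHom g) t x hx
      exact ⟨W, homOfLE hW, ⟨r, hr⟩, hxW⟩

/-- Finitely many generators of the sections over the preimage of an affine open generate. -/
theorem genOn_of_span (hF : Coh.IsQCoh F) (hU : IsAffineOpen U) (s : Fin n → Γ(F, f ⁻¹ᵁ U))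
    (hs : Submodule.span Γ(X, f ⁻¹ᵁ U) (Set.range s) = ⊤) : GenOn f F s := by
  haveI : F.IsQuasicoherent := hF
  intro V hV t x hx
  obtain ⟨a, ha, hxa⟩ := hU.exists_basicOpen_le (V := V) ⟨x, hx⟩ (hV hx)
  let g := f.app U a
  have hg : X.basicOpen g = f ⁻¹ᵁ S.basicOpen a := (Scheme.preimage_basicOpen f a).symm
  have hgV : X.basicOpen g ≤ f ⁻¹ᵁ V := hg.le.trans (f.preimage_mono ha)
  obtain ⟨k, m, hm⟩ := H10Coh.exists_pow_smul_eq_res F (hU.preimage f) g
    (F.presheaf.map (homOfLE hgV).op t)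
  obtain ⟨c, hc⟩ := (Submodule.mem_span_range_iff_exists_fun Γ(X, f ⁻¹ᵁ U)).1 (hs.ge (Submodule.mem_top (x := m)))
  obtain ⟨v, hv⟩ : ∃ v : Γ(X, X.basicOpen g), v * X.presheaf.map (homOfLE (X.basicOpen_le g)).op g ^ k = 1 :=
    ((RingedSpace.isUnit_res_basicOpen X.toRingedSpace g).pow k).exists_left_inv
  refine ⟨S.basicOpen a, ha, hxa, fun i => X.presheaf.map (homOfLE hg.ge).op
    (v * X.presheaf.map (homOfLE (X.basicOpen_le g)).op (c i)), ?_⟩
  have h1 : F.presheaf.map (homOfLE hgV).op t =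
      ∑ i, (v * X.presheaf.map (homOfLE (X.basicOpen_le g)).op (c i)) •
        F.presheaf.map (homOfLE (X.basicOpen_le g)).op (s i) := by
    rw [← one_smul Γ(X, X.basicOpen g) (F.presheaf.map (homOfLE hgV).op t), ← hv, mul_smul]
    refine (congrArg (v • ·) (show _ = F.presheaf.map (homOfLE (X.basicOpen_le g)).op m by
      rw [hm, map_pow])).trans ?_
    rw [← hc, map_sum, Finset.smul_sum]
    exact Finset.sum_congr rfl fun i _ => by rw [Scheme.Modules.map_smul, smul_smul]
  have h2 := congrArg (F.presheaf.map (homOfLE hg.ge).op) h1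
  rw [map_sum] at h2
  simp only [Scheme.Modules.map_smul, ← ConcreteCategory.comp_apply, ← Functor.map_comp, ← op_comp,
    homOfLE_comp] at h2
  exact h2

/-- Generators over an affine open generate the sections over its preimage. -/
theorem span_eq_top_of_genOn (hF : Coh.IsQCoh F) (hU : IsAffineOpen U) (s : Fin n → Γ(F, f ⁻¹ᵁ U))
    (h : GenOn f F s) : Submodule.span Γ(X, f ⁻¹ᵁ U) (Set.range s) = ⊤ := by
  haveI : F.IsQuasicoherent := hF
  refine eq_top_iff.2 fun t _ => ?_
  set N := Submodule.span Γ(X, f ⁻¹ᵁ U) (Set.range s)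
  let I : Ideal Γ(S, U) := Ideal.comap (f.app U).hom (N.comap (LinearMap.toSpanSingleton Γ(X, f ⁻¹ᵁ U) _ t))
  suffices hI : I = ⊤ by
    have h1 : (1 : Γ(S, U)) ∈ I := hI ▸ Submodule.mem_top
    simpa [I] using h1
  by_contra hI
  obtain ⟨P, hP, hIP⟩ := Ideal.exists_le_maximal I hI
  obtain ⟨x, hx⟩ := H29Blow.exists_primeIdealOf_eq hU (⟨P, hP.isPrime⟩ : PrimeSpectrum Γ(S, U))
  obtain ⟨W, hW, hxW, r, hr⟩ := h U le_rfl t x.1 x.2
  obtain ⟨a, ha, hxa⟩ := hU.exists_basicOpen_le (V := W) ⟨x.1, hxW⟩ x.2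
  let g := f.app U a
  have hg : X.basicOpen g = f ⁻¹ᵁ S.basicOpen a := (Scheme.preimage_basicOpen f a).symm
  have hgW : X.basicOpen g ≤ f ⁻¹ᵁ W := hg.le.trans (f.preimage_mono ha)
  haveI := (hU.preimage f).isLocalization_basicOpen g
  obtain ⟨⟨_, k, rfl⟩, hk⟩ := IsLocalization.exist_integer_multiples_of_finite (Submonoid.powers g)
    (fun i => X.presheaf.map (homOfLE hgW).op (r i) : Fin n → Γ(X, X.basicOpen g))
  choose c hc using fun i => hk i
  have hres : F.presheaf.map (homOfLE (X.basicOpen_le g)).op (g ^ k • t - ∑ i, c i • s i) = 0 := by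
    have h2 := congrArg (F.presheaf.map (homOfLE hgW).op) hr
    rw [map_sum] at h2
    simp only [Scheme.Modules.map_smul, ← ConcreteCategory.comp_apply, ← Functor.map_comp, ← op_comp,
      homOfLE_comp] at h2
    rw [map_sub, map_sum, Scheme.Modules.map_smul, sub_eq_zero]
    refine (congrArg (X.presheaf.map (homOfLE (X.basicOpen_le g)).op (g ^ k) • ·) h2).trans ?_
    rw [Finset.smul_sum]
    refine Finset.sum_congr rfl fun i _ => ?_
    rw [Scheme.Modules.map_smul, smul_smul]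
    exact congrArg (· • _) ((Algebra.smul_def (g ^ k) _).symm.trans (hc i).symm)
  obtain ⟨l, hl⟩ := H29Blow.exists_pow_smul_eq_zero F hF (hU.preimage f) g _ hres
  have hmem : a ^ (l + k) ∈ I := by
    change f.app U (a ^ (l + k)) • t ∈ N
    rw [map_pow, pow_add, mul_smul]
    rw [smul_sub, sub_eq_zero] at hl
    rw [hl]
    exact Submodule.smul_mem _ _ (sum_mem fun i _ => Submodule.smul_mem _ _ (Submodule.subset_span ⟨i, rfl⟩))
  refine (H29Blow.mem_primeIdealOf_iff hU x a).1 ?_ ((S.mem_basicOpen a x.1 x.2).1 hxa)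
  rw [congrArg PrimeSpectrum.asIdeal hx]
  exact hP.isPrime.mem_of_pow_mem _ (hIP hmem)

/-- A quasi-coherent module is of finite type iff its direct image is, over the direct image algebra. -/
theorem isFT_iff (hF : Coh.IsQCoh F) :
    CohB1.IsFT F ↔ SheafOfModules.IsFiniteType.{u} (R := ModSite.ringSh (algSheaf f)) (dmod f F) := by
  haveI : F.IsQuasicoherent := hF
  rw [LocGen.isFiniteType_iff]
  constructor
  · intro hft
    refine ⟨S.affineOpens, fun U => U.1, ?_, fun U => ?_⟩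
    · exact (Opens.coversTop_iff _ _).2 (iSup_affineOpens_eq_top S)
    haveI := H10Coh.finite_sections F hft (U.2.preimage f)
    obtain ⟨n, s, hs⟩ := Module.Finite.exists_fin (R := Γ(X, f ⁻¹ᵁ U.1)) (M := Γ(F, f ⁻¹ᵁ U.1))
    exact ⟨n, s, (gen_iff f F s).2 (genOn_of_span f F hF U.2 s hs)⟩
  · rintro ⟨ι, Ui, hUi, h⟩
    have hcov : ∀ x : S, ∃ U : S.Opens, IsAffineOpen U ∧ x ∈ U ∧ Module.Finite Γ(X, f ⁻¹ᵁ U) Γ(F, f ⁻¹ᵁ U) := by
      intro x
      obtain ⟨i, hi⟩ := Opens.mem_iSup.1 (((Opens.coversTop_iff _ _).1 hUi).ge (Set.mem_univ x))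
      obtain ⟨U, hU, hxU, hUi'⟩ := exists_isAffineOpen_mem_and_subset (U := Ui i) (x := x) hi
      obtain ⟨n, s, hs⟩ := h i
      have hs' := hs.restrict (U' := U) (homOfLE hUi')
      refine ⟨U, hU, hxU, ⟨?_⟩⟩
      rw [← span_eq_top_of_genOn f F hF hU _ ((gen_iff f F _).1 hs')]
      exact Submodule.fg_span (Set.finite_range _)
    choose U hU hxU hfin using hcov
    refine (H10Coh.isFT_isFP_of_affineCover F (I := ULift.{u} S) (fun x => f ⁻¹ᵁ U x.down) ?_
      (fun x => (hU x.down).preimage f) fun x => hfin x.down).1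
    exact eq_top_iff.2 fun y _ => Opens.mem_iSup.2 ⟨⟨f y⟩, hxU (f y)⟩

end Groth.Agent.H11Aff.DirImgFinType
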