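import Groth.Agent.H11Ample.Tensor

/-!
# A globally generated module mapping onto an invertible module near a point
-/

set_option autoImplicit false

noncomputable section

universe u

open CategoryTheory CategoryTheory.Limits AlgebraicGeometry Opposite TopologicalSpace
open Groth.Agent.H11Tilde Groth.Agent.H11Ample

namespace Groth.Agent.H11Aff

variable {X : Scheme.{u}} {L M : X.Modules}

/-- If `M` is globally generated and some section of `M` maps to a generator of `L` near `x`, then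
a global section of `M` does. -/
theorem exists_mem_gen_app (h : Curv2.IsGloballyGenerated M) (φ : M ⟶ L) {x : X} {V : X.Opens}
    (hxV : x ∈ V) (m : Γ(M, V)) (he : IsGen L (φ.app V m)) :
    ∃ g : Γ(M, ⊤), x ∈ gen L (φ.app ⊤ g) := by
  obtain ⟨ι, a', ha'⟩ := h
  let a : H10Coh.freeMod X ι ⟶ M := a'
  haveI : Epi a := ha'
  by_contra hne
  push Not at hne
  let O := X.presheaf.stalk x
  let P : Submodule O (L.presheaf.stalk x) := (IsLocalRing.maximalIdeal O) • ⊤
  let e := φ.app V m
  let ψ : L ⟶ H06Mod.sky x (L.presheaf.stalk x ⧸ P) := H06Mod.homOfStalk P.mkQ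
  have h0 : a ≫ (φ ≫ ψ) = a ≫ 0 := by
    refine H10Coh.free_hom_ext _ _ fun i => ?_
    refine Scheme.Modules.hom_ext _ _ fun W => ?_
    ext r
    refine H06Mod.skyEval_ext (x := x) (N := L.presheaf.stalk x ⧸ P) fun hxW => ?_
    let g₀ := (H10Coh.freeIncl ι i ≫ a).app ⊤ (one ⊤)
    let g := φ.app ⊤ g₀
    have hr : (H10Coh.freeIncl ι i ≫ a ≫ φ).app W r =
        (show Γ(X, W) from r) • L.presheaf.map (homOfLE (le_top : W ≤ ⊤)).op g :=
      H06Mod.app_unit _ W r
    change H06Mod.skyEval x _ W hxW (ψ.app W ((H10Coh.freeIncl ι i ≫ a ≫ φ).app W r)) = _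
    rw [hr, H06Mod.skyEval_homOfStalk, H06Mod.germ_smul, TopCat.Presheaf.germ_res_apply]
    have hg : L.presheaf.germ ⊤ x (Opens.mem_top x) g ∈ P := by
      obtain ⟨c, hc⟩ := exists_coeff he (L.presheaf.map (homOfLE (le_top : V ≤ ⊤)).op g)
      have hcu : ¬ x ∈ X.basicOpen c := fun h' => hne g₀ ((gen_inf_eq_basicOpen he g c hc).ge h').1
      rw [← TopCat.Presheaf.germ_res_apply L.presheaf (homOfLE (le_top : V ≤ ⊤)) x hxV g, hc, H06Mod.germ_smul]
      exact Submodule.smul_mem_smul ((IsLocalRing.mem_maximalIdeal _).2 fun hu => hcu ((X.mem_basicOpen c x hxV).2 hu))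
        Submodule.mem_top
    exact (Submodule.Quotient.mk_eq_zero P).2 (P.smul_mem _ hg)
  have hψ : φ ≫ ψ = 0 := (cancel_epi a).1 h0
  have he0 : L.presheaf.germ V x hxV e ∈ P := (Submodule.Quotient.mk_eq_zero P).1
    ((H06Mod.skyEval_homOfStalk P.mkQ V hxV e).symm.trans
      (congrArg (H06Mod.skyEval x _ V hxV) (congr($(congrArg (fun k => Scheme.Modules.Hom.app k V) hψ) m))))
  have hP : P ≤ Submodule.map (LinearMap.toSpanSingleton O _ (L.presheaf.germ V x hxV e)) (IsLocalRing.maximalIdeal O) := by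
    refine Submodule.smul_le.2 fun r hr n _ => ?_
    obtain ⟨c, rfl⟩ := (he x hxV).2 n
    exact ⟨r * c, Ideal.mul_mem_right _ _ hr, mul_smul _ _ _⟩
  obtain ⟨c, hc, hce⟩ := hP he0
  have : c = 1 := (he x hxV).1 (hce.trans (one_smul _ _).symm)
  exact (IsLocalRing.maximalIdeal.isMaximal O).ne_top ((Ideal.eq_top_iff_one _).2 (this ▸ hc))

end Groth.Agent.H11Aff
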