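import Groth.Agent.H25Int.NearFibre

/-!
# Bases of projective modules of constant rank near finitely many primes
-/

set_option autoImplicit false
set_option linter.style.haveILetI false
universe u

open Groth.Agent.H29Fitt Groth.Agent.H8Props.FinLocFree Groth.Agent.H25Int

namespace Groth.Agent.H11Aff

variable {B : Type u} [CommRing B] {M : Type u} [AddCommGroup M] [Module B M]

/-- A module which has bases of length `n` everywhere has one near each finite set of primes. -/
theorem exists_basis_upTo_of_finite [Module.Finite B M] {n : ℕ} (F : Finset (Ideal B))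
    (hF : ∀ q ∈ F, q.IsPrime)
    (hloc : ∀ q : Ideal B, q.IsPrime → ∃ h : B, h ∉ q ∧ ∃ m : Fin n → M,
      SpansUpTo (Submonoid.powers h) m ∧ IndepUpTo (Submonoid.powers h) m) :
    ∃ (a : B) (m : Fin n → M), (∀ q ∈ F, a ∉ q) ∧ SpansUpTo (Submonoid.powers a) m ∧
      IndepUpTo (Submonoid.powers a) m := by
  classical
  -- only the maximal ones matter
  let G := F.filter fun q => ∀ q' ∈ F, q ≤ q' → q' = q
  have hG : ∀ q ∈ F, ∃ q' ∈ G, q ≤ q' := fun q hq => by
    obtain ⟨q', hle, hmax⟩ := Finset.exists_le_maximal F hq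
    exact ⟨q', Finset.mem_filter.2 ⟨hmax.prop, fun r hr hqr => (hmax.eq_of_le hr hqr).symm⟩, hle⟩
  have hGp : ∀ q : G, (q : Ideal B).IsPrime := fun q => hF q (Finset.mem_filter.1 q.2).1
  choose h hh bq hbq using fun q : G => hloc q (hGp q)
  -- elements separating the members of `G`
  have hsep : ∀ q : G, ∃ ε : B, ε ∉ (q : Ideal B) ∧ ∀ l : G, l ≠ q → ε ∈ (l : Ideal B) := by
    intro q
    have hne : ∀ l : G, l ≠ q → ∃ x, x ∈ (l : Ideal B) ∧ x ∉ (q : Ideal B) := fun l hl => by
      refine Set.not_subset.1 fun hle => hl (Subtype.ext ?_)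
      exact ((Finset.mem_filter.1 l.2).2 q (Finset.mem_filter.1 q.2).1 hle).symm
    choose x hx hxq using hne
    refine ⟨∏ l ∈ (Finset.univ.erase q).attach, x l (Finset.ne_of_mem_erase l.2), ?_, fun l hl => ?_⟩
    · haveI := hGp q
      exact (Submonoid.prod_mem (q : Ideal B).primeCompl fun l _ => hxq _ _ : _)
    · exact Ideal.mem_of_dvd _ (Finset.dvd_prod_of_mem _
        (Finset.mem_attach _ ⟨l, Finset.mem_erase.2 ⟨hl, Finset.mem_univ _⟩⟩)) (hx _ hl)
  choose ε hεi hother using hsep
  let m : Fin n → M := fun j => ∑ i, ε i • bq i j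
  let N := Submodule.span B (Set.range m)
  let J := N.colon (⊤ : Submodule B M)
  have hJ : ∀ i : G, ¬ J ≤ (i : Ideal B) := by
    intro i hle
    set q : Ideal B := (i : Ideal B) with hqdef
    have hq : q.IsPrime := hGp i
    have hmem : ∀ j, ε i • bq i j ∈ N ⊔ q • (⊤ : Submodule B M) := fun j => by
      have e0 : ε i • bq i j = m j - ∑ l ∈ Finset.univ.erase i, ε l • bq l j :=
        eq_sub_of_add_eq (Finset.add_sum_erase _ (fun l => ε l • bq l j) (Finset.mem_univ i))
      rw [e0]
      exact sub_mem (Submodule.mem_sup_left (Submodule.subset_span ⟨j, rfl⟩)) (Submodule.mem_sup_right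
        (Submodule.sum_mem _ fun l hl =>
          Submodule.smul_mem_smul (hother l i (Ne.symm (Finset.ne_of_mem_erase hl))) trivial))
    have hy : ∀ y : M, ∃ s, s ∉ q ∧ s • y ∈ N ⊔ q • (⊤ : Submodule B M) := fun y => by
      obtain ⟨s, ⟨r, rfl⟩, hs⟩ := (hbq i).1 y
      refine ⟨ε i * h i ^ r, fun hm => (hq.mem_or_mem hm).elim (hεi i)
        fun h' => hh i (hq.mem_of_pow_mem r h'), ?_⟩
      rw [mul_smul]
      obtain ⟨d, hd⟩ := (Submodule.mem_span_range_iff_exists_fun B).1 hs
      rw [← hd, Finset.smul_sum]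
      exact Submodule.sum_mem _ fun j _ => by rw [smul_comm]; exact Submodule.smul_mem _ _ (hmem j)
    obtain ⟨S, hS⟩ := Module.Finite.fg_top (R := B) (M := M)
    choose s hs hsy using hy
    haveI := hq
    have hs0 : (∏ y ∈ S, s y) ∉ q := (Submonoid.prod_mem q.primeCompl fun y _ => hs y : _)
    set s0 := ∏ y ∈ S, s y
    let ψ : Module.End B (M ⧸ N) := s0 • LinearMap.id
    have hrange : LinearMap.range ψ ≤ q • (⊤ : Submodule B (M ⧸ N)) := by
      rintro _ ⟨z, rfl⟩
      obtain ⟨z, rfl⟩ := N.mkQ_surjective z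
      have hz : s0 • z ∈ N ⊔ q • (⊤ : Submodule B M) := by
        have : z ∈ Submodule.span B (S : Set M) := hS ▸ Submodule.mem_top
        induction this using Submodule.span_induction with
        | mem y hy =>
          obtain ⟨r, hr⟩ := Finset.dvd_prod_of_mem s hy
          rw [show s0 = r * s y from hr.trans (mul_comm _ _), mul_smul]
          exact Submodule.smul_mem _ _ (hsy y)
        | zero => simp
        | add a b _ _ ha hb => rw [smul_add]; exact add_mem ha hb
        | smul r a _ ha => rw [smul_comm]; exact Submodule.smul_mem _ _ ha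
      obtain ⟨a, ha, b, hb, hab⟩ := Submodule.mem_sup.1 hz
      show s0 • N.mkQ z ∈ _
      rw [← map_smul, ← hab, map_add, show N.mkQ a = 0 from (Submodule.Quotient.mk_eq_zero N).2 ha, zero_add]
      have := Submodule.mem_map_of_mem (f := N.mkQ) hb
      rw [Submodule.map_smul'', Submodule.map_top, Submodule.range_mkQ] at this
      exact this
    obtain ⟨P, hmon, -, hcoef, hP⟩ :=
      LinearMap.exists_monic_and_coeff_mem_pow_and_aeval_eq_zero_of_range_le_smul B ψ q hrange
    have hann : ∀ z : M, Polynomial.eval s0 P • z ∈ N := fun z => by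
      rw [← Submodule.Quotient.mk_eq_zero]
      have e : ∀ R : Polynomial B, Polynomial.aeval ψ R = Polynomial.eval s0 R • LinearMap.id := fun R => by
        rw [show ψ = algebraMap B (Module.End B (M ⧸ N)) s0 from (Algebra.algebraMap_eq_smul_one _).symm,
          Polynomial.aeval_algebraMap_apply_eq_algebraMap_eval]
        exact Algebra.algebraMap_eq_smul_one _
      have := LinearMap.congr_fun (e P) (N.mkQ z)
      rw [hP] at this
      simpa using this.symm
    have hev : Polynomial.eval s0 P ∉ q := fun hm => hs0 (hq.mem_of_pow_mem P.natDegree (by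
      rw [Polynomial.eval_eq_sum_range, Finset.sum_range_succ, hmon.coeff_natDegree, one_mul] at hm
      refine (q.add_mem_iff_right (q.sum_mem fun l hl => q.mul_mem_right _ ?_)).1 hm
      exact Ideal.pow_le_self (Nat.sub_ne_zero_of_lt (Finset.mem_range.1 hl)) (hcoef l)))
    exact hev (hle (Submodule.mem_colon.2 fun z _ => hann z))
  obtain ⟨a, haJ, ha⟩ : ∃ a, a ∈ J ∧ ∀ i : G, a ∉ (i : Ideal B) := by
    rcases isEmpty_or_nonempty G with hG0 | ⟨⟨i₀⟩⟩
    · exact ⟨0, zero_mem _, fun i => isEmptyElim i⟩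
    by_contra hne
    push Not at hne
    obtain ⟨i, -, hi⟩ := (Ideal.subset_union_prime (s := (Finset.univ : Finset G))
      (f := fun i : G => (i : Ideal B)) i₀ i₀ (fun i _ _ _ => hGp i)).1 fun x hx => by
        obtain ⟨i, hi⟩ := hne x hx
        exact Set.mem_biUnion (Finset.mem_univ i) hi
    exact hJ i hi
  have haN : ∀ y : M, a • y ∈ N := fun y => Submodule.mem_colon.1 haJ y trivial
  refine ⟨a, m, fun q hq haq => ?_, fun y => ⟨_, Submonoid.mem_powers _, haN y⟩, fun z hz j => ?_⟩
  · obtain ⟨q', hq', hle⟩ := hG q hq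
    exact ha ⟨q', hq'⟩ (hle haq)
  let Z : Ideal B := LinearMap.ker (LinearMap.toSpanSingleton B B (z j))
  have hrad : a ∈ Z.radical := by
    rw [Ideal.radical_eq_sInf, Ideal.mem_sInf]
    rintro Q ⟨hQle, hQ⟩
    by_contra haQ
    obtain ⟨hQ', hhQ, b, hb, hbi⟩ := hloc Q hQ
    haveI := hQ
    obtain ⟨t, ht, ht0⟩ := exists_smul_eq_zero Q hhQ b hb hbi m
      (fun y => ⟨_, haQ, haN y⟩) z hz j
    exact ht (hQle ht0)
  obtain ⟨r, hr⟩ := hrad
  exact ⟨_, ⟨r, rfl⟩, hr⟩

end Groth.Agent.H11Aff
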