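import Groth.Agent.H17.QAffImm
import Groth.Agent.H7Lim.Approx.SubLimit

/-!
# Quasi-affine morphisms of finite type factor through affine morphisms of finite type
-/

set_option autoImplicit false
set_option linter.style.haveILetI false

noncomputable section

universe u

open CategoryTheory CategoryTheory.Limits AlgebraicGeometry Opposite TopologicalSpace
open Groth.Agent.H7Lim.Approx

namespace Groth.Agent.H11Aff

variable {X Y P : Scheme.{u}}

open AffineSpace in
/-- Finitely many sections over `f⁻¹ V` whose presence in the image makes `a` an immersion over `V`. -/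
theorem exists_finset_isImmersion (f : X ⟶ Y) [LocallyOfFiniteType f] (V : Y.Opens)
    [(f ⁻¹ᵁ V).toScheme.IsQuasiAffine] :
    ∃ s : Finset Γ(X, f ⁻¹ᵁ V), ∀ (P : Scheme.{u}) (p : P ⟶ Y) (a : X ⟶ P) (h : a ≫ p = f),
      (∀ z ∈ s, ∃ w, a.appLE (p ⁻¹ᵁ V) (f ⁻¹ᵁ V) (by rw [← h]; exact le_rfl) w = z) →
        IsImmersion (a ∣_ (p ⁻¹ᵁ V)) := by
  classical
  obtain ⟨n, i, hi, hiπ⟩ := H17.QAffImm.exists_immersion (f ∣_ V)
  let x : ULift.{u} (Fin n) → Γ(X, f ⁻¹ᵁ V) := fun k => (f ⁻¹ᵁ V).topIso.hom (i.appTop (coord V.toScheme k))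
  refine ⟨Finset.univ.image x, fun P p a h hs => ?_⟩
  subst h
  choose σ hσ using fun k => hs (x k) (Finset.mem_image_of_mem _ (Finset.mem_univ k))
  let W := p ⁻¹ᵁ V
  let g : W.toScheme ⟶ 𝔸(ULift.{u} (Fin n); V.toScheme) :=
    homOfVector (p ∣_ V) fun k => W.topIso.inv (σ k)
  have hg : (a ∣_ W) ≫ g = i := by
    refine AffineSpace.hom_ext ?_ fun k => ?_
    · rw [Category.assoc, homOfVector_over]
      exact ((morphismRestrict_comp a p V).symm.trans hiπ.symm)
    · simp only [Scheme.Hom.comp_appTop, CommRingCat.comp_apply, g, homOfVector_appTop_coord]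
      have e : W.topIso.inv ≫ (a ∣_ W).appTop =
          a.appLE W (a ⁻¹ᵁ W) le_rfl ≫ (a ⁻¹ᵁ W).topIso.inv := by
        rw [morphismRestrict_appTop, Scheme.Opens.topIso_inv, Scheme.Opens.topIso_inv]
        simp only [Scheme.Hom.app_eq_appLE, Scheme.Hom.appLE_map]
        erw [Scheme.Hom.map_appLE, Scheme.Hom.appLE_map]
        rfl
      refine (congr($e (σ k))).trans ?_
      refine (congrArg (a ⁻¹ᵁ W).topIso.inv (hσ k)).trans ?_
      exact congr($((a ⁻¹ᵁ W).topIso.hom_inv_id) (i.appTop (coord V.toScheme k)))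
  haveI : IsImmersion ((a ∣_ W) ≫ g) := hg.symm ▸ hi
  exact IsImmersion.of_comp (a ∣_ W) g

theorem exists_factor_immersion [CompactSpace Y] [QuasiSeparatedSpace Y] (f : X ⟶ Y)
    [QuasiCompact f] [QuasiSeparated f] [LocallyOfFiniteType f]
    (hf : ∀ V : Y.Opens, IsAffineOpen V → (f ⁻¹ᵁ V).toScheme.IsQuasiAffine) :
    ∃ (Z : Scheme.{u}) (g : Z ⟶ Y) (j : X ⟶ Z),
      IsAffineHom g ∧ LocallyOfFiniteType g ∧ IsImmersion j ∧ j ≫ g = f := by
  classical
  obtain ⟨S, hS, hSeq⟩ := isCompact_iff_finite_and_eq_biUnion_affineOpens.1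
    (show IsCompact ((⊤ : Y.Opens) : Set Y) from isCompact_univ)
  haveI := hS.fintype
  have hex : ∀ U : S, ∃ J : FGSub f, ∀ K : FGSub f, J ≤ K → IsImmersion (K.toSpec ∣_ (K.proj ⁻¹ᵁ U.1.1)) := by
    intro U
    haveI := hf U.1.1 U.1.2
    obtain ⟨s, hs⟩ := exists_finset_isImmersion f U.1.1
    obtain ⟨J, hJ⟩ := exists_mem f U.1 s
    refine ⟨J, fun K hK => hs K.spec K.proj K.toSpec K.toSpec_proj fun z hz => ?_⟩
    exact (K.isSpec.range_eq U.1).ge (hK U.1 (hJ hz))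
  choose J hJ using hex
  obtain ⟨K, hK⟩ : ∃ K : FGSub f, ∀ U : S, J U ≤ K := by
    obtain ⟨K, hK⟩ := Finset.exists_le (α := FGSub f) ((Finset.univ : Finset S).image J)
    exact ⟨K, fun U => hK _ (Finset.mem_image_of_mem _ (Finset.mem_univ U))⟩
  refine ⟨K.spec, K.proj, K.toSpec, inferInstance, inferInstance, ?_, K.toSpec_proj⟩
  refine IsZariskiLocalAtTarget.of_iSup_eq_top (fun U : S => K.proj ⁻¹ᵁ U.1.1) ?_ fun U => hJ U K (hK U)
  rw [← Scheme.Hom.preimage_iSup]
  have : (⨆ U : S, U.1.1) = (⊤ : Y.Opens) := by rw [hSeq, iSup_subtype]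
  rw [this, Scheme.Hom.preimage_top]

end Groth.Agent.H11Aff
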