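import Groth.Agent.H11Aff.WeakAssIff
import Groth.Prelude.Def_FlatCA

/-!
# Weakly associated points of `tilde M` and primes of `M`
-/

set_option autoImplicit false
set_option linter.style.haveILetI false

noncomputable section

universe u

open CategoryTheory AlgebraicGeometry Opposite TopologicalSpace

namespace Groth.Agent.H11Aff

variable (A : CommRingCat.{u}) (M : ModuleCat.{u} A) (p : Spec A)

/-- Global sections of `tilde M` over `Γ(Spec A, ⊤)` are `M` over `A`: comparison of annihilators. -/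
theorem exists_tilde_transfer :
    ∃ (φ : A ≅ Γ(Spec A, ⊤)) (e : M → Γ(tilde M, ⊤)), Function.Bijective e ∧
      (∀ (x : M) (a : A), a • x = 0 ↔ φ.hom a ∈ H29Blow.secAnn (tilde M) (e x)) ∧
      ∀ a : A, φ.hom a ∈ ((isAffineOpen_top (Spec A)).primeIdealOf ⟨p, trivial⟩).asIdeal ↔ a ∈ p.asIdeal := by
  refine ⟨(Scheme.ΓSpecIso A).symm, fun x => (tilde.toOpen M ⊤).hom x,
    ConcreteCategory.bijective_of_isIso (tilde.isoTop M).hom, fun x a => ?_, fun a => ?_⟩
  · rw [H29Blow.mem_secAnn]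
    have hinj : Function.Injective fun x => (tilde.toOpen M ⊤).hom x :=
      (ConcreteCategory.bijective_of_isIso (tilde.isoTop M).hom).1
    have hsmul : (tilde.toOpen M ⊤).hom (a • x) =
        ((Scheme.ΓSpecIso A).inv a) • (show Γ(tilde M, ⊤) from (tilde.toOpen M ⊤).hom x) := by
      rw [map_smul]
      refine (Scheme.Modules.smul_Spec_def a (show Γ(tilde M, ⊤) from (tilde.toOpen M ⊤).hom x)).trans ?_
      congr 1
    constructor
    · intro h
      exact hsmul.symm.trans ((congrArg _ h).trans (map_zero _))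
    · intro h
      exact hinj ((hsmul.trans h).trans (map_zero _).symm)
  · rw [H29Blow.mem_primeIdealOf_iff]
    refine Iff.trans (not_congr ((Spec A).mem_basicOpen (U := ⊤) ((Scheme.ΓSpecIso A).symm.hom a) p trivial).symm) ?_
    rw [show (Spec A).basicOpen ((Scheme.ΓSpecIso A).symm.hom a) = PrimeSpectrum.basicOpen a from
      basicOpen_eq_of_affine a]
    exact not_not

theorem map_minimalPrimes_iff {R S : Type*} [CommRing R] [CommRing S] (φ : R ≃+* S) {I q : Ideal R}
    {I' q' : Ideal S} (hI : ∀ a, a ∈ I ↔ φ a ∈ I') (hq : ∀ a, φ a ∈ q' ↔ a ∈ q) :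
    q ∈ I.minimalPrimes ↔ q' ∈ I'.minimalPrimes := by
  have e1 : I = I'.comap φ.toRingHom := Ideal.ext fun a => hI a
  have e2 : q = q'.comap φ.toRingHom := Ideal.ext fun a => (hq a).symm
  rw [e1, e2, Ideal.comap_minimalPrimes_eq_of_surjective (f := φ.toRingHom) φ.surjective]
  constructor
  · rintro ⟨q'', hq'', h⟩
    rwa [← Ideal.comap_injective_of_surjective φ.toRingHom φ.surjective h]
  · exact fun h => ⟨q', h, rfl⟩

theorem weakAss_iff_isWeakAssPoint :
    p.asIdeal ∈ FlatCA.weakAss A M ↔ Curv2.IsWeakAssPoint (tilde M) p := by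
  obtain ⟨φ, e, he, hann, hp⟩ := exists_tilde_transfer A M p
  have h := isWeakAssPoint_iff_minimal (tilde M) (inferInstanceAs (tilde M).IsQuasicoherent)
    (isAffineOpen_top (Spec A)) ⟨p, trivial⟩
  have key : ∀ x : M, p.asIdeal ∈ (Submodule.span A {x}).annihilator.minimalPrimes ↔
      ((isAffineOpen_top (Spec A)).primeIdealOf ⟨p, trivial⟩).asIdeal ∈
        (H29Blow.secAnn (tilde M) (e x)).minimalPrimes := fun x =>
    map_minimalPrimes_iff φ.commRingCatIsoToRingEquiv
      (fun a => Iff.trans (Submodule.mem_annihilator_span_singleton x a) (hann x a)) hp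
  refine Iff.trans ⟨fun ⟨x, hx⟩ => ⟨e x, (key x).1 hx⟩, fun ⟨s, hs⟩ => ?_⟩ h.symm
  obtain ⟨x, rfl⟩ := he.2 s
  exact ⟨x, (key x).2 hs⟩

theorem isAssPoint_of_mem_associatedPrimes (h : p.asIdeal ∈ associatedPrimes A M) :
    Curv2.IsAssPoint (tilde M) p := by
  obtain ⟨hp, x, hx⟩ := h
  refine (isWeakAssPoint_iff_isAssPoint (tilde M) p).2 ((weakAss_iff_isWeakAssPoint A M p).1 ⟨x, ?_⟩)
  have hann : (Submodule.span A {x}).annihilator = Submodule.colon (⊥ : Submodule A M) {x} := by
    ext a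
    rw [Submodule.mem_colon_singleton, Submodule.mem_annihilator_span_singleton, Submodule.mem_bot]
  rw [hann]
  refine ⟨⟨hp, hx ▸ Ideal.le_radical⟩, fun q hq _ => ?_⟩
  rw [hx]
  exact hq.1.radical_le_iff.2 hq.2

theorem mem_associatedPrimes_of_isAssPoint (hfg : p.asIdeal.FG) (h : Curv2.IsAssPoint (tilde M) p) :
    p.asIdeal ∈ associatedPrimes A M := by
  obtain ⟨φ, e, he, hann, hp⟩ := exists_tilde_transfer A M p
  let ψ := φ.commRingCatIsoToRingEquiv
  have hmap : p.asIdeal.map ψ.toRingHom =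
      ((isAffineOpen_top (Spec A)).primeIdealOf ⟨p, trivial⟩).asIdeal := by
    have e2 : p.asIdeal = Ideal.comap ψ.toRingHom
        ((isAffineOpen_top (Spec A)).primeIdealOf ⟨p, trivial⟩).asIdeal := Ideal.ext fun a => (hp a).symm
    rw [e2, Ideal.map_comap_of_surjective ψ.toRingHom ψ.surjective]
  obtain ⟨s, hs⟩ := exists_radical_eq_of_isWeakAssPoint (tilde M) (inferInstanceAs (tilde M).IsQuasicoherent)
    (isAffineOpen_top (Spec A)) ⟨p, trivial⟩ (hmap ▸ hfg.map _) ((isWeakAssPoint_iff_isAssPoint _ _).1 h)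
  obtain ⟨x, rfl⟩ := he.2 s
  refine ⟨p.isPrime, x, Ideal.ext fun a => ?_⟩
  rw [← hp a, ← hs]
  constructor
  · rintro ⟨n, hn⟩
    refine ⟨n, Submodule.mem_colon_singleton.2 ?_⟩
    rw [Submodule.mem_bot]
    refine (hann x _).2 ?_
    rwa [map_pow]
  · rintro ⟨n, hn⟩
    rw [Submodule.mem_colon_singleton, Submodule.mem_bot] at hn
    refine ⟨n, ?_⟩
    have := (hann x _).1 hn
    rwa [map_pow] at this

end Groth.Agent.H11Aff
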