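import Groth.Agent.H11Aff.WeakAssIff
import Groth.Agent.H10Coh.BaseChange
import Mathlib.RingTheory.QuasiFinite.Basic
import Mathlib.RingTheory.Ideal.GoingUp
import Mathlib.AlgebraicGeometry.Morphisms.Finite

/-!
# Weakly associated points go to weakly associated points under finite morphisms
-/

set_option autoImplicit false

universe u

open CategoryTheory AlgebraicGeometry

namespace Groth.Agent.H11Aff

/-- A minimal prime over an ideal of a finite algebra becomes, after a colon by an element outside,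
minimal over the contraction. -/
theorem exists_colon_minimalPrimes_comap {A B : Type u} [CommRing A] [CommRing B] [Algebra A B] [Module.Finite A B]
    (I q : Ideal B) (hq : q ∈ I.minimalPrimes) :
    ∃ g ∉ q, Ideal.comap (algebraMap A B) q ∈
      (Ideal.comap (algebraMap A B) (Submodule.colon I {g})).minimalPrimes := by
  classical
  have := hq.1.1
  let p := Ideal.comap (algebraMap A B) q
  let T := {Q : Ideal B | Q ∈ p.primesOver B ∧ Q ≠ q}
  have hT : T.Finite := (Algebra.QuasiFinite.finite_primesOver p).subset fun Q h => h.1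
  have key : ∀ Q ∈ T, ∃ g ∉ q, ∃ s ∉ Q, s * g ∈ I := by
    rintro Q ⟨⟨hQp, hQo⟩, hne⟩
    by_contra! hno
    obtain ⟨P, hP, hIP, hdisj⟩ := Ideal.exists_le_prime_disjoint I (Q.primeCompl ⊔ q.primeCompl) (by
      rw [Set.disjoint_left]
      intro x hxI hx
      obtain ⟨s, hs, g, hg, rfl⟩ := Submonoid.mem_sup.1 hx
      exact hno g hg s hs hxI)
    have hPq : P ≤ q := fun x hx => by
      by_contra h
      exact Set.disjoint_left.1 hdisj hx (Submonoid.mem_sup_right (show x ∈ q.primeCompl from h))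
    have hPQ : P ≤ Q := fun x hx => by
      by_contra h
      exact Set.disjoint_left.1 hdisj hx (Submonoid.mem_sup_left (show x ∈ Q.primeCompl from h))
    have hqQ : q ≤ Q := le_trans (hq.2 ⟨hP, hIP⟩ hPq) hPQ
    exact hne (Algebra.QuasiFinite.eq_of_le_of_under_eq (R := A) q Q hqQ hQo.over).symm
  choose! g hg s hs hsg using key
  let G := ∏ Q ∈ hT.toFinset, g Q
  have hG : G ∉ q := fun h => by
    obtain ⟨Q, hQ, hgQ⟩ := hq.1.1.prod_mem_iff.1 h
    exact hg Q (hT.mem_toFinset.1 hQ) hgQ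
  refine ⟨G, hG, ⟨Ideal.IsPrime.under A q, fun a ha => ?_⟩, fun p' hp' hle => fun a ha => ?_⟩
  · have h1 := Submodule.mem_colon_singleton.1 ha
    rcases hq.1.1.mem_or_mem (hq.1.2 (show algebraMap A B a * G ∈ I from h1)) with h | h
    · exact h
    · exact absurd h hG
  · have := hp'.1
    by_contra hap
    let S : Submonoid B := (p.primeCompl ⊔ Submonoid.powers a).map (algebraMap A B)
    by_cases hmeet : ∃ x ∈ S, x ∈ Submodule.colon I {G}
    · obtain ⟨_, ⟨b, hb, rfl⟩, hx⟩ := hmeet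
      obtain ⟨c, hc, _, ⟨n, rfl⟩, rfl⟩ := Submonoid.mem_sup.1 hb
      rcases hp'.1.mem_or_mem (hp'.2 hx) with h | h
      · exact hc (hle h)
      · exact hap (hp'.1.mem_of_pow_mem n h)
    · obtain ⟨P, hP, hJP, hdisj⟩ := Ideal.exists_le_prime_disjoint (Submodule.colon I {G}) S (by
        rw [Set.disjoint_left]
        exact fun x hxJ hxS => hmeet ⟨x, hxS, hxJ⟩)
      have hPp : P.comap (algebraMap A B) ≤ p := fun c hc => by
        by_contra h
        exact Set.disjoint_left.1 hdisj hc ⟨c, Submonoid.mem_sup_left (show c ∈ p.primeCompl from h), rfl⟩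
      have haP : algebraMap A B a ∉ P := fun h =>
        Set.disjoint_left.1 hdisj h ⟨a, Submonoid.mem_sup_right (Submonoid.mem_powers a), rfl⟩
      obtain ⟨Q, hPQ, hQ, hQp⟩ := Ideal.exists_ideal_over_prime_of_isIntegral p P hPp
      by_cases hQq : Q = q
      · subst hQq
        have hIP : I ≤ P := fun x hx => hJP (Submodule.mem_colon_singleton.2 (I.mul_mem_right _ hx))
        exact haP (hq.2 ⟨hP, hIP⟩ hPQ ha)
      · have hQT : Q ∈ T := ⟨⟨hQ, ⟨hQp.symm⟩⟩, hQq⟩
        refine hs Q hQT (hPQ (hJP (Submodule.mem_colon_singleton.2 ?_)))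
        have hd : g Q ∣ G := Finset.dvd_prod_of_mem _ (hT.mem_toFinset.2 hQT)
        obtain ⟨r, hr⟩ := hd
        rw [smul_eq_mul, hr, ← mul_assoc]
        exact Ideal.mul_mem_right _ _ (hsg Q hQT)

/-- Weakly associated points map to weakly associated points under a finite morphism. -/
theorem isWeakAssPoint_push_of_finite {X S : Scheme.{u}} (f : X ⟶ S) [IsFinite f] (F : X.Modules)
    (hF : Coh.IsQCoh F) (x : X) (hx : Curv2.IsWeakAssPoint F x) :
    Curv2.IsWeakAssPoint ((Scheme.Modules.pushforward f).obj F) (f x) := by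
  classical
  obtain ⟨V, hV, hxV, -⟩ := exists_isAffineOpen_mem_and_subset (U := (⊤ : S.Opens)) (x := f x) trivial
  have hpf : IsAffineOpen (f ⁻¹ᵁ V) := hV.preimage f
  let P := (Scheme.Modules.pushforward f).obj F
  have : F.IsQuasicoherent := hF
  have hqc : Coh.IsQCoh P := H10Coh.isQuasicoherent_pushforward_of_isAffineHom f F
  let x' : (f ⁻¹ᵁ V : X.Opens) := ⟨x, hxV⟩
  obtain ⟨s, hs⟩ := (isWeakAssPoint_iff_minimal F hF hpf x').1 hx
  let _ := (f.app V).hom.toAlgebra
  have : Module.Finite Γ(S, V) Γ(X, f ⁻¹ᵁ V) := IsFinite.finite_app f V hV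
  obtain ⟨g, -, hmin⟩ := exists_colon_minimalPrimes_comap (A := Γ(S, V)) _ _ hs
  refine (isWeakAssPoint_iff_minimal P hqc hV ⟨f x, hxV⟩).2 ⟨(g • s : Γ(F, f ⁻¹ᵁ V)), ?_⟩
  have hann : H29Blow.secAnn P (g • s : Γ(F, f ⁻¹ᵁ V)) =
      Ideal.comap (algebraMap Γ(S, V) Γ(X, f ⁻¹ᵁ V)) (Submodule.colon (H29Blow.secAnn F s) {g}) := by
    ext a
    rw [H29Blow.mem_secAnn, Ideal.mem_comap, Submodule.mem_colon_singleton, smul_eq_mul, H29Blow.mem_secAnn]
    show f.app V a • (g • s) = (0 : Γ(F, f ⁻¹ᵁ V)) ↔ _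
    rw [smul_smul]
    rfl
  have hp : (hV.primeIdealOf ⟨f x, hxV⟩).asIdeal =
      Ideal.comap (algebraMap Γ(S, V) Γ(X, f ⁻¹ᵁ V)) (hpf.primeIdealOf x').asIdeal := by
    ext a
    rw [Ideal.mem_comap, H29Blow.mem_primeIdealOf_iff, H29Blow.mem_primeIdealOf_iff, not_iff_not,
      ← isUnit_map_iff (f.stalkMap x).hom, Scheme.Hom.germ_stalkMap_apply]
    rfl
  rw [hann, hp]
  exact hmin

end Groth.Agent.H11Aff
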