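import Groth.Agent.H29Blow.WeakAssAffine
import Groth.Agent.H17.AssPts
import Mathlib.AlgebraicGeometry.Modules.Tilde

/-!
# Weakly associated points on an affine open and associated primes of sections
-/

set_option autoImplicit false
set_option linter.style.haveILetI false

noncomputable section

universe u

open CategoryTheory AlgebraicGeometry Opposite TopologicalSpace

namespace Groth.Agent.H11Aff

variable {X : Scheme.{u}} (F : X.Modules) {V : X.Opens}

/-- At a weakly associated point some section has the prime minimal over its annihilator. -/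
theorem exists_minimal_of_isWeakAssPoint (hF : Coh.IsQCoh F) (hV : IsAffineOpen V) (y : V)
    (h : Curv2.IsWeakAssPoint F y.1) :
    ∃ s : Γ(F, V), (hV.primeIdealOf y).asIdeal ∈ (H29Blow.secAnn F s).minimalPrimes ∧
      ∀ a ∈ (hV.primeIdealOf y).asIdeal, ∃ (c : Γ(X, V)) (n : ℕ),
        c ∉ (hV.primeIdealOf y).asIdeal ∧ (c * a ^ n) • s = 0 := by
  obtain ⟨m, hm⟩ := h
  obtain ⟨t, s, hyt, hts⟩ := H17.AssPts.exists_smul_germ_eq F hF hV y.2 m
  have hu : IsUnit (X.presheaf.germ V y.1 y.2 t) := (X.mem_basicOpen t y.1 y.2).1 hyt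
  have hne : F.presheaf.germ V y.1 y.2 s ≠ 0 := by
    intro h0
    rw [h0] at hts
    have hm0 : m = 0 := hu.smul_eq_zero.1 hts
    refine (IsLocalRing.maximalIdeal.isMaximal (X.presheaf.stalk y.1)).ne_top (hm.symm.trans ?_)
    refine Ideal.radical_eq_top.2 ((Ideal.eq_top_iff_one _).2 ?_)
    rw [LinearMap.mem_ker, LinearMap.toSpanSingleton_apply, one_smul, hm0]
  have key : ∀ a ∈ (hV.primeIdealOf y).asIdeal, ∃ (c : Γ(X, V)) (n : ℕ),
      c ∉ (hV.primeIdealOf y).asIdeal ∧ (c * a ^ n) • s = 0 := by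
    intro a ha
    have hmem : X.presheaf.germ V y.1 y.2 a ∈ IsLocalRing.maximalIdeal (X.presheaf.stalk y.1) :=
      (IsLocalRing.mem_maximalIdeal _).2 ((H29Blow.mem_primeIdealOf_iff hV y a).1 ha)
    rw [← hm] at hmem
    obtain ⟨n, hn⟩ := hmem
    rw [LinearMap.mem_ker, LinearMap.toSpanSingleton_apply, ← map_pow] at hn
    have h0 : F.presheaf.germ V y.1 y.2 (a ^ n • s) = 0 := by
      rw [H17.AssPts.germ_smul', ← hts, smul_comm, hn, smul_zero]
    obtain ⟨c, hc, hcs⟩ := H29Blow.exists_smul_eq_zero_of_germ F hF hV y _ h0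
    exact ⟨c, n, hc, by rw [← smul_smul]; exact hcs⟩
  refine ⟨s, ⟨⟨inferInstance, (H29Blow.germ_ne_zero_iff F hF hV y s).1 hne⟩, fun q hq hqle a ha => ?_⟩, key⟩
  obtain ⟨c, n, hc, hcs⟩ := key a ha
  haveI := hq.1
  rcases hq.1.mem_or_mem (hq.2 ((H29Blow.mem_secAnn F).2 hcs)) with h1 | h1
  · exact absurd (hqle h1) hc
  · exact hq.1.mem_of_pow_mem n h1

theorem isWeakAssPoint_iff_minimal (hF : Coh.IsQCoh F) (hV : IsAffineOpen V) (y : V) :
    Curv2.IsWeakAssPoint F y.1 ↔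
      ∃ s : Γ(F, V), (hV.primeIdealOf y).asIdeal ∈ (H29Blow.secAnn F s).minimalPrimes := by
  refine ⟨fun h => ?_, fun ⟨s, hs⟩ => H29Blow.isWeakAssPoint_of_minimalPrimes F hF hV y s hs⟩
  obtain ⟨s, hs, -⟩ := exists_minimal_of_isWeakAssPoint F hF hV y h
  exact ⟨s, hs⟩

/-- With finitely generated prime: a section whose annihilator has the prime as radical. -/
theorem exists_radical_eq_of_isWeakAssPoint (hF : Coh.IsQCoh F) (hV : IsAffineOpen V) (y : V)
    (hfg : (hV.primeIdealOf y).asIdeal.FG) (h : Curv2.IsWeakAssPoint F y.1) :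
    ∃ s : Γ(F, V), (H29Blow.secAnn F s).radical = (hV.primeIdealOf y).asIdeal := by
  classical
  obtain ⟨s, hs, key⟩ := exists_minimal_of_isWeakAssPoint F hF hV y h
  obtain ⟨T, hT⟩ := hfg
  have hTmem : ∀ a ∈ T, a ∈ (hV.primeIdealOf y).asIdeal := fun a ha => hT ▸ Ideal.subset_span ha
  choose c n hc hcs using fun a : {a // a ∈ T} => key a.1 (hTmem a.1 a.2)
  let C := ∏ a : {a // a ∈ T}, c a
  have hC : C ∉ (hV.primeIdealOf y).asIdeal := fun hmem => by
    obtain ⟨a, -, ha⟩ := (Ideal.IsPrime.prod_mem_iff).1 hmem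
    exact hc a ha
  refine ⟨C • s, le_antisymm ?_ ?_⟩
  · refine (inferInstance : (hV.primeIdealOf y).asIdeal.IsPrime).radical_le_iff.2 fun b hb => ?_
    rw [H29Blow.mem_secAnn, smul_smul] at hb
    exact ((inferInstance : (hV.primeIdealOf y).asIdeal.IsPrime).mem_or_mem
      (hs.1.2 ((H29Blow.mem_secAnn F).2 hb))).resolve_right hC
  · rw [← hT, Ideal.span_le]
    intro a ha
    refine ⟨n ⟨a, ha⟩, ?_⟩
    obtain ⟨d, hd⟩ : c ⟨a, ha⟩ ∣ C := Finset.dvd_prod_of_mem _ (Finset.mem_univ _)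
    rw [H29Blow.mem_secAnn, smul_smul, hd,
      show a ^ n ⟨a, ha⟩ * (c ⟨a, ha⟩ * d) = d * (c ⟨a, ha⟩ * a ^ n ⟨a, ha⟩) by ring,
      ← smul_smul d, hcs ⟨a, ha⟩, smul_zero]

theorem isWeakAssPoint_iff_isAssPoint (x : X) : Curv2.IsAssPoint F x ↔ Curv2.IsWeakAssPoint F x := by
  constructor
  · rintro ⟨-, m, hm⟩
    refine ⟨m, Eq.trans (congrArg Ideal.radical ?_) hm.symm⟩
    ext a
    simp [Submodule.mem_colon_singleton]
  · rintro ⟨m, hm⟩
    refine ⟨inferInstance, m, hm.symm.trans (congrArg Ideal.radical ?_)⟩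
    ext a
    simp [Submodule.mem_colon_singleton]

end Groth.Agent.H11Aff
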